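import Mathlib

/-!
# A Buchberger-type criterion (helper6)

For a family `g l = monomial (L l) 1 + (lower terms)` of monic polynomials w.r.t. a monomial order,
if every S-pair has a standard representation (`PairOK`), then every nonzero element of the ideal
generated by the `g l` has a monomial divisible by some `L l`.  Formulated through the `R`-submodules
`Mlt T` spanned by the `monomial b 1 * g l` with `b + L l ≺ T`.
-/

set_option autoImplicit false

namespace Groth.Agent.Lib.Helper6.Groeb

open MvPolynomial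

section SuppP

variable {σ : Type*} {R : Type*} [CommRing R]

/-- every monomial in the support of `p` satisfies `P` -/
def SuppP (P : (σ →₀ ℕ) → Prop) (p : MvPolynomial σ R) : Prop := ∀ b ∈ p.support, P b

variable {P : (σ →₀ ℕ) → Prop}

theorem SuppP.zero : SuppP P (0 : MvPolynomial σ R) := by
  intro b hb; simp at hb

theorem SuppP.add {p q : MvPolynomial σ R} (hp : SuppP P p) (hq : SuppP P q) :
    SuppP P (p + q) := by
  classical
  intro b hb
  rcases Finset.mem_union.mp (support_add hb) with h | h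
  · exact hp b h
  · exact hq b h

theorem SuppP.neg {p : MvPolynomial σ R} (hp : SuppP P p) : SuppP P (-p) := by
  intro b hb; rw [support_neg] at hb; exact hp b hb

theorem SuppP.sub {p q : MvPolynomial σ R} (hp : SuppP P p) (hq : SuppP P q) :
    SuppP P (p - q) := by
  rw [sub_eq_add_neg]; exact hp.add hq.neg

theorem SuppP.smul {p : MvPolynomial σ R} (hp : SuppP P p) (c : R) : SuppP P (c • p) :=
  fun b hb => hp b (support_smul hb)

theorem SuppP.C_mul {p : MvPolynomial σ R} (hp : SuppP P p) (c : R) : SuppP P (C c * p) := by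
  rw [← smul_eq_C_mul]; exact hp.smul c

theorem SuppP.monomial {b : σ →₀ ℕ} (h : P b) (c : R) :
    SuppP P (MvPolynomial.monomial b c) := by
  intro x hx
  have := support_monomial_subset hx
  rw [Finset.mem_singleton] at this
  rw [this]; exact h

theorem SuppP.C (h : P 0) (c : R) : SuppP P (MvPolynomial.C c : MvPolynomial σ R) := by
  rw [C_apply]; exact SuppP.monomial h c

theorem SuppP.one (h : P 0) : SuppP P (1 : MvPolynomial σ R) := by
  rw [← C_1]; exact SuppP.C h 1

theorem SuppP.X {s : σ} (h : P (Finsupp.single s 1)) :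
    SuppP P (MvPolynomial.X s : MvPolynomial σ R) := SuppP.monomial h 1

theorem XX_eq (s t : σ) : (MvPolynomial.X s * MvPolynomial.X t : MvPolynomial σ R)
    = MvPolynomial.monomial (Finsupp.single s 1 + Finsupp.single t 1) 1 := by
  simp only [MvPolynomial.X, monomial_mul, mul_one]

theorem SuppP.XX {s t : σ} (h : P (Finsupp.single s 1 + Finsupp.single t 1)) :
    SuppP P (MvPolynomial.X s * MvPolynomial.X t : MvPolynomial σ R) := by
  rw [XX_eq]; exact SuppP.monomial h 1

end SuppP

section Main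

variable {σ : Type*} {R : Type*} [CommRing R] (m : MonomialOrder σ)
variable {ι : Type*} (L : ι → σ →₀ ℕ) (g : ι → MvPolynomial σ R)

/-- monomial multiples of generators with leading exponent `≺ T` -/
def Slt (T : σ →₀ ℕ) : Set (MvPolynomial σ R) :=
  {p | ∃ l b, m.toSyn (b + L l) < m.toSyn T ∧ p = monomial b (1 : R) * g l}

/-- monomial multiples of generators with leading exponent `≼ T` -/
def Sle (T : σ →₀ ℕ) : Set (MvPolynomial σ R) :=
  {p | ∃ l b, m.toSyn (b + L l) ≤ m.toSyn T ∧ p = monomial b (1 : R) * g l}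

/-- monomial multiples of generators with leading exponent exactly `T` -/
def Seq (T : σ →₀ ℕ) : Set (MvPolynomial σ R) :=
  {p | ∃ l, L l ≤ T ∧ p = monomial (T - L l) (1 : R) * g l}

/-- all monomial multiples of generators -/
def Sall : Set (MvPolynomial σ R) := {p | ∃ l b, p = monomial b (1 : R) * g l}

noncomputable def Mlt (T : σ →₀ ℕ) : Submodule R (MvPolynomial σ R) := Submodule.span R (Slt m L g T)
noncomputable def Mle (T : σ →₀ ℕ) : Submodule R (MvPolynomial σ R) := Submodule.span R (Sle m L g T)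

theorem Mle_mono {T T' : σ →₀ ℕ} (h : m.toSyn T ≤ m.toSyn T') : Mle m L g T ≤ Mle m L g T' :=
  Submodule.span_mono (by rintro p ⟨l, b, hb, rfl⟩; exact ⟨l, b, hb.trans h, rfl⟩)

theorem Mlt_le_Mle (T : σ →₀ ℕ) : Mlt m L g T ≤ Mle m L g T :=
  Submodule.span_mono (by rintro p ⟨l, b, hb, rfl⟩; exact ⟨l, b, hb.le, rfl⟩)

theorem Mle_le_Mlt {T T' : σ →₀ ℕ} (h : m.toSyn T < m.toSyn T') : Mle m L g T ≤ Mlt m L g T' :=
  Submodule.span_mono (by rintro p ⟨l, b, hb, rfl⟩; exact ⟨l, b, lt_of_le_of_lt hb h, rfl⟩)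

theorem monomial_mul_mem_Mlt {T : σ →₀ ℕ} (a : σ →₀ ℕ) {x : MvPolynomial σ R}
    (hx : x ∈ Mlt m L g T) : monomial a (1 : R) * x ∈ Mlt m L g (a + T) := by
  induction hx using Submodule.span_induction with
  | mem x hx =>
    obtain ⟨l, b, hb, rfl⟩ := hx
    refine Submodule.subset_span ⟨l, a + b, ?_, ?_⟩
    · rw [add_assoc, map_add, map_add m.toSyn a T]
      exact (add_lt_add_iff_left _).mpr hb
    · rw [← mul_assoc, monomial_mul, mul_one]
  | zero => rw [mul_zero]; exact Submodule.zero_mem _
  | add x y _ _ hx hy => rw [mul_add]; exact Submodule.add_mem _ hx hy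
  | smul c x _ hx => rw [mul_smul_comm]; exact Submodule.smul_mem _ c hx

theorem mul_mem_Mlt {T : σ →₀ ℕ} {l : ι} {p : MvPolynomial σ R}
    (h : SuppP (fun b => m.toSyn (b + L l) < m.toSyn T) p) : p * g l ∈ Mlt m L g T := by
  have key : p * g l = ∑ v ∈ p.support, coeff v p • (monomial v (1 : R) * g l) := by
    conv_lhs => rw [← support_sum_monomial_coeff p]
    rw [Finset.sum_mul]
    refine Finset.sum_congr rfl fun v _ => ?_
    rw [← smul_mul_assoc, smul_monomial, smul_eq_mul, mul_one]
  rw [key]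
  exact Submodule.sum_mem _ fun v hv =>
    Submodule.smul_mem _ _ (Submodule.subset_span ⟨l, v, h v hv, rfl⟩)

theorem mul_mem_Mall (q : MvPolynomial σ R) {x : MvPolynomial σ R}
    (hx : x ∈ Submodule.span R (Sall g)) : q * x ∈ Submodule.span R (Sall g) := by
  induction hx using Submodule.span_induction with
  | mem x hx =>
    obtain ⟨l, b, rfl⟩ := hx
    refine MvPolynomial.induction_on' q (fun u a => ?_) (fun p q hp hq => ?_)
    · rw [← mul_assoc, monomial_mul, mul_one]
      have e : (monomial (u + b) a : MvPolynomial σ R) = a • monomial (u + b) (1 : R) := by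
        rw [smul_monomial, smul_eq_mul, mul_one]
      rw [e, smul_mul_assoc]
      exact Submodule.smul_mem _ _ (Submodule.subset_span ⟨l, u + b, rfl⟩)
    · rw [add_mul]; exact Submodule.add_mem _ hp hq
  | zero => rw [mul_zero]; exact Submodule.zero_mem _
  | add x y _ _ hx hy => rw [mul_add]; exact Submodule.add_mem _ hx hy
  | smul c x _ hx => rw [mul_smul_comm]; exact Submodule.smul_mem _ c hx

theorem mem_Mall_of_mem_ideal {f : MvPolynomial σ R} (hf : f ∈ Ideal.span (Set.range g)) :
    f ∈ Submodule.span R (Sall g) := by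
  induction hf using Submodule.span_induction with
  | mem x hx =>
    obtain ⟨l, rfl⟩ := hx
    refine Submodule.subset_span ⟨l, 0, ?_⟩
    rw [← C_apply, C_1, one_mul]
  | zero => exact Submodule.zero_mem _
  | add x y _ _ hx hy => exact Submodule.add_mem _ hx hy
  | smul a x _ hx => rw [smul_eq_mul]; exact mul_mem_Mall g a hx

theorem exists_Mle_of_mem_Mall {x : MvPolynomial σ R} (hx : x ∈ Submodule.span R (Sall g)) :
    ∃ T, x ∈ Mle m L g T := by
  induction hx using Submodule.span_induction with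
  | mem x hx =>
    obtain ⟨l, b, rfl⟩ := hx
    exact ⟨b + L l, Submodule.subset_span ⟨l, b, le_refl _, rfl⟩⟩
  | zero => exact ⟨0, Submodule.zero_mem _⟩
  | add x y _ _ hx hy =>
    obtain ⟨T1, h1⟩ := hx
    obtain ⟨T2, h2⟩ := hy
    rcases le_total (m.toSyn T1) (m.toSyn T2) with h | h
    · exact ⟨T2, Submodule.add_mem _ (Mle_mono m L g h h1) h2⟩
    · exact ⟨T1, Submodule.add_mem _ h1 (Mle_mono m L g h h2)⟩
  | smul c x _ hx =>
    obtain ⟨T1, h1⟩ := hx
    exact ⟨T1, Submodule.smul_mem _ c h1⟩

theorem exists_Mle {f : MvPolynomial σ R} (hf : f ∈ Ideal.span (Set.range g)) :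
    ∃ T, f ∈ Mle m L g T :=
  exists_Mle_of_mem_Mall m L g (mem_Mall_of_mem_ideal g hf)

/-- the structural hypothesis: `g l = monomial (L l) 1 + (terms ≺ L l)` -/
def Monic' : Prop :=
  ∀ l, SuppP (fun b => m.toSyn b < m.toSyn (L l)) (g l - monomial (L l) (1 : R))

variable {m L g}

theorem coeff_L (hr : Monic' m L g) (l : ι) : coeff (L l) (g l) = 1 := by
  classical
  have h0 : coeff (L l) (g l - monomial (L l) (1 : R)) = 0 := by
    by_contra hne
    exact lt_irrefl _ (hr l (L l) (mem_support_iff.mpr hne))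
  rw [coeff_sub, coeff_monomial, if_pos rfl, sub_eq_zero] at h0
  exact h0

theorem le_L (hr : Monic' m L g) (l : ι) (b : σ →₀ ℕ) (hb : b ∈ (g l).support) :
    m.toSyn b ≤ m.toSyn (L l) := by
  classical
  by_cases hbl : b = L l
  · rw [hbl]
  · refine (hr l b ?_).le
    rw [mem_support_iff] at hb ⊢
    rwa [coeff_sub, coeff_monomial, if_neg (Ne.symm hbl), sub_zero]

theorem support_Mlt (hr : Monic' m L g) {T : σ →₀ ℕ} {x : MvPolynomial σ R}
    (hx : x ∈ Mlt m L g T) : SuppP (fun b => m.toSyn b < m.toSyn T) x := by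
  induction hx using Submodule.span_induction with
  | mem x hx =>
    obtain ⟨l, b, hb, rfl⟩ := hx
    intro y hy
    rw [mem_support_iff, coeff_monomial_mul'] at hy
    split_ifs at hy with hby
    · have hy' : y - b ∈ (g l).support := by
        rw [mem_support_iff]; intro h0; exact hy (by rw [h0, mul_zero])
      have h1 := le_L hr l _ hy'
      show m.toSyn y < m.toSyn T
      calc m.toSyn y = m.toSyn (b + (y - b)) := by rw [add_tsub_cancel_of_le hby]
        _ = m.toSyn b + m.toSyn (y - b) := map_add _ _ _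
        _ ≤ m.toSyn b + m.toSyn (L l) := (add_le_add_iff_left _).mpr h1
        _ = m.toSyn (b + L l) := (map_add _ _ _).symm
        _ < m.toSyn T := hb
    · exact absurd rfl hy
  | zero => exact SuppP.zero
  | add x y _ _ hx hy => exact hx.add hy
  | smul c x _ hx => exact hx.smul c

theorem coeff_top (hr : Monic' m L g) {T : σ →₀ ℕ} {l : ι} (h : L l ≤ T) :
    coeff T (monomial (T - L l) (1 : R) * g l) = 1 := by
  rw [coeff_monomial_mul', if_pos tsub_le_self, one_mul, tsub_tsub_cancel_of_le h]
  exact coeff_L hr l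

variable (m L g)

/-- the S-pair of `g j`, `g k` has a standard representation -/
def PairOK (j k : ι) : Prop :=
  ∃ u w : σ →₀ ℕ, u ⊓ w = 0 ∧ u + L j = w + L k ∧
    monomial u (1 : R) * g j - monomial w (1 : R) * g k ∈ Mlt m L g (u + L j)

variable {m L g}

theorem le_of_inf_eq_zero {u w a b T : σ →₀ ℕ} (hd : u ⊓ w = 0) (he : u + a = w + b)
    (ha : a ≤ T) (hb : b ≤ T) : u + a ≤ T := by
  refine Finsupp.le_def.mpr fun s => ?_
  have h1 : min (u s) (w s) = 0 := by
    have := DFunLike.congr_fun hd s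
    simpa [Finsupp.inf_apply] using this
  have h2 : u s + a s = w s + b s := by
    have := DFunLike.congr_fun he s
    simpa [Finsupp.add_apply] using this
  have h3 := Finsupp.le_def.mp ha s
  have h4 := Finsupp.le_def.mp hb s
  rw [Finsupp.add_apply]
  rcases Nat.min_eq_zero_iff.mp h1 with h | h <;> omega

theorem pair_shift {j k : ι} (h : PairOK m L g j k) {T : σ →₀ ℕ} (hj : L j ≤ T) (hk : L k ≤ T) :
    monomial (T - L j) (1 : R) * g j - monomial (T - L k) (1 : R) * g k ∈ Mlt m L g T := by
  obtain ⟨u, w, hd, he, hm⟩ := h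
  have hT0 : u + L j ≤ T := le_of_inf_eq_zero hd he hj hk
  obtain ⟨e, rfl⟩ : ∃ e, T = e + (u + L j) := ⟨T - (u + L j), (tsub_add_cancel_of_le hT0).symm⟩
  have h1 : e + (u + L j) - L j = e + u := by
    rw [← add_assoc]; exact add_tsub_cancel_right _ _
  have h2 : e + (u + L j) - L k = e + w := by
    rw [he, ← add_assoc]; exact add_tsub_cancel_right _ _
  rw [h1, h2]
  have := monomial_mul_mem_Mlt m L g e hm
  rwa [mul_sub, ← mul_assoc, ← mul_assoc, monomial_mul, monomial_mul, mul_one] at this

theorem PairOK.symm {j k : ι} (h : PairOK m L g j k) : PairOK m L g k j := by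
  obtain ⟨u, w, hd, he, hm⟩ := h
  refine ⟨w, u, by rw [inf_comm]; exact hd, he.symm, ?_⟩
  rw [← he]
  have := Submodule.neg_mem _ hm
  rwa [neg_sub] at this

theorem PairOK.of_eq {j k : ι} (hg : g j = g k) (hL : L j = L k) : PairOK m L g j k :=
  ⟨0, 0, by simp, by rw [hL], by rw [hg, sub_self]; exact Submodule.zero_mem _⟩

theorem PairOK.mk' {j k : ι} {a b : σ →₀ ℕ} {p q : MvPolynomial σ R}
    (hLj : L j = a) (hgj : g j = p) (hLk : L k = b) (hgk : g k = q)
    (u w : σ →₀ ℕ) (hd : u ⊓ w = 0) (he : u + a = w + b)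
    (hm : monomial u (1 : R) * p - monomial w (1 : R) * q ∈ Mlt m L g (u + a)) :
    PairOK m L g j k := by
  subst hLj hgj hLk hgk
  exact ⟨u, w, hd, he, hm⟩

theorem PairOK.coprime (hr : Monic' m L g) {j k : ι} (h : L j ⊓ L k = 0) :
    PairOK m L g j k := by
  refine ⟨L k, L j, by rw [inf_comm]; exact h, add_comm _ _, ?_⟩
  have e : monomial (L k) (1 : R) * g j - monomial (L j) (1 : R) * g k
      = (g j - monomial (L j) 1) * g k - (g k - monomial (L k) 1) * g j := by ring
  rw [e]
  refine Submodule.sub_mem _ (mul_mem_Mlt m L g ?_) (mul_mem_Mlt m L g ?_)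
  · intro b hb
    have := hr j b hb
    show m.toSyn (b + L k) < m.toSyn (L k + L j)
    rw [map_add, map_add, add_comm (m.toSyn (L k))]
    exact (add_lt_add_iff_right _).mpr this
  · intro b hb
    have := hr k b hb
    show m.toSyn (b + L j) < m.toSyn (L k + L j)
    rw [map_add, map_add]
    exact (add_lt_add_iff_right _).mpr this

theorem Mle_decomp {T : σ →₀ ℕ} {x : MvPolynomial σ R} (hx : x ∈ Mle m L g T) :
    ∃ y ∈ Submodule.span R (Seq L g T), ∃ z ∈ Mlt m L g T, x = y + z := by
  induction hx using Submodule.span_induction with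
  | mem x hx =>
    obtain ⟨l, b, hb, rfl⟩ := hx
    rcases hb.lt_or_eq with h | h
    · exact ⟨0, Submodule.zero_mem _, _, Submodule.subset_span ⟨l, b, h, rfl⟩, (zero_add _).symm⟩
    · have hT : b + L l = T := m.toSyn.injective h
      refine ⟨_, Submodule.subset_span ⟨l, ?_, rfl⟩, 0, Submodule.zero_mem _, ?_⟩
      · rw [← hT]; exact le_add_self
      · rw [add_zero, ← hT, add_tsub_cancel_right]
  | zero => exact ⟨0, Submodule.zero_mem _, 0, Submodule.zero_mem _, (add_zero _).symm⟩
  | add x y _ _ hx hy =>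
    obtain ⟨y1, hy1, z1, hz1, rfl⟩ := hx
    obtain ⟨y2, hy2, z2, hz2, rfl⟩ := hy
    exact ⟨y1 + y2, Submodule.add_mem _ hy1 hy2, z1 + z2, Submodule.add_mem _ hz1 hz2, by ring⟩
  | smul c x _ hx =>
    obtain ⟨y1, hy1, z1, hz1, rfl⟩ := hx
    exact ⟨c • y1, Submodule.smul_mem _ c hy1, c • z1, Submodule.smul_mem _ c hz1,
      smul_add _ _ _⟩

theorem Seq_claim (hr : Monic' m L g) (hS : ∀ j k, PairOK m L g j k) {T : σ →₀ ℕ}
    {x : MvPolynomial σ R} (hx : x ∈ Submodule.span R (Seq L g T)) (l0 : ι) (hl0 : L l0 ≤ T) :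
    x - coeff T x • (monomial (T - L l0) (1 : R) * g l0) ∈ Mlt m L g T := by
  induction hx using Submodule.span_induction with
  | mem x hx =>
    obtain ⟨l, hl, rfl⟩ := hx
    rw [coeff_top hr hl, one_smul]
    exact pair_shift (hS l l0) hl hl0
  | zero => simp
  | add x y _ _ hx hy =>
    rw [coeff_add, add_smul]
    have := Submodule.add_mem _ hx hy
    convert this using 1
    abel
  | smul c x _ hx =>
    rw [coeff_smul, smul_eq_mul, mul_smul, ← smul_sub]
    exact Submodule.smul_mem _ c hx

theorem Seq_empty {T : σ →₀ ℕ} {x : MvPolynomial σ R} (h : ¬ ∃ l0, L l0 ≤ T)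
    (hx : x ∈ Submodule.span R (Seq L g T)) : x = 0 := by
  have : Seq L g T = (∅ : Set (MvPolynomial σ R)) := by
    ext p
    simp only [Set.mem_empty_iff_false, iff_false]
    rintro ⟨l, hl, _⟩
    exact h ⟨l, hl⟩
  rw [this, Submodule.span_empty] at hx
  exact (Submodule.mem_bot R).mp hx

theorem Mlt_lower {T : σ →₀ ℕ} {x : MvPolynomial σ R} (hx : x ∈ Mlt m L g T) :
    x = 0 ∨ ∃ T', m.toSyn T' < m.toSyn T ∧ x ∈ Mle m L g T' := by
  induction hx using Submodule.span_induction with
  | mem x hx =>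
    obtain ⟨l, b, hb, rfl⟩ := hx
    exact Or.inr ⟨b + L l, hb, Submodule.subset_span ⟨l, b, le_refl _, rfl⟩⟩
  | zero => exact Or.inl rfl
  | add x y _ _ hx hy =>
    rcases hx with rfl | ⟨T1, h1, hx1⟩
    · rw [zero_add]; exact hy
    rcases hy with rfl | ⟨T2, h2, hy2⟩
    · rw [add_zero]; exact Or.inr ⟨T1, h1, hx1⟩
    rcases le_total (m.toSyn T1) (m.toSyn T2) with h | h
    · exact Or.inr ⟨T2, h2, Submodule.add_mem _ (Mle_mono m L g h hx1) hy2⟩
    · exact Or.inr ⟨T1, h1, Submodule.add_mem _ hx1 (Mle_mono m L g h hy2)⟩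
  | smul c x _ hx =>
    rcases hx with rfl | ⟨T1, h1, hx1⟩
    · exact Or.inl (smul_zero _)
    · exact Or.inr ⟨T1, h1, Submodule.smul_mem _ c hx1⟩

theorem exists_le_of_mem_Mle (hr : Monic' m L g) (hS : ∀ j k, PairOK m L g j k) :
    ∀ (t : m.syn) (T : σ →₀ ℕ), m.toSyn T = t → ∀ f ∈ Mle m L g T, f ≠ 0 →
      ∃ k, ∃ b ∈ f.support, L k ≤ b := by
  intro t
  induction t using WellFoundedLT.induction with
  | ind t ih =>
    intro T hT f hf hne
    obtain ⟨x, hx, y, hy, rfl⟩ := Mle_decomp hf
    have hy0 : coeff T y = 0 := by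
      by_contra h
      exact lt_irrefl _ (support_Mlt hr hy T (mem_support_iff.mpr h))
    by_cases hc : coeff T x = 0
    · have hxlt : x ∈ Mlt m L g T := by
        by_cases hex : ∃ l0, L l0 ≤ T
        · obtain ⟨l0, hl0⟩ := hex
          have := Seq_claim hr hS hx l0 hl0
          rwa [hc, zero_smul, sub_zero] at this
        · rw [Seq_empty hex hx]; exact Submodule.zero_mem _
      have hflt : x + y ∈ Mlt m L g T := Submodule.add_mem _ hxlt hy
      rcases Mlt_lower hflt with h0 | ⟨T', hT', hf'⟩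
      · exact absurd h0 hne
      · exact ih (m.toSyn T') (by rw [← hT]; exact hT') T' rfl _ hf' hne
    · have hex : ∃ l0, L l0 ≤ T := by
        by_contra hex
        exact hc (by rw [Seq_empty hex hx, coeff_zero])
      obtain ⟨l0, hl0⟩ := hex
      refine ⟨l0, T, ?_, hl0⟩
      rw [mem_support_iff, coeff_add, hy0, add_zero]
      exact hc

/-- **Buchberger-type criterion**: an element of the ideal all of whose monomials are standard is zero. -/
theorem std_eq_zero (hr : Monic' m L g) (hS : ∀ j k, PairOK m L g j k) {f : MvPolynomial σ R}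
    (hf : f ∈ Ideal.span (Set.range g)) (hstd : ∀ b ∈ f.support, ∀ k, ¬ L k ≤ b) : f = 0 := by
  by_contra hne
  obtain ⟨T, hT⟩ := exists_Mle m L g hf
  obtain ⟨k, b, hb, hkb⟩ := exists_le_of_mem_Mle hr hS _ T rfl f hT hne
  exact hstd b hb k hkb

theorem degree_eq [Nontrivial R] (hr : Monic' m L g) (l : ι) : m.degree (g l) = L l := by
  apply m.toSyn.injective
  apply le_antisymm
  · have hne : g l ≠ 0 := by
      intro h0
      have := coeff_L hr l
      rw [h0, coeff_zero] at this
      exact zero_ne_one this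
    exact le_L hr l _ (m.degree_mem_support hne)
  · apply m.le_degree
    rw [mem_support_iff, coeff_L hr l]
    exact one_ne_zero

theorem leadingCoeff_eq [Nontrivial R] (hr : Monic' m L g) (l : ι) :
    m.leadingCoeff (g l) = 1 := by
  rw [MonomialOrder.leadingCoeff, degree_eq hr l]
  exact coeff_L hr l

/-- division with remainder: every polynomial is congruent to one supported on standard monomials -/
theorem exists_std_rem (hr : Monic' m L g) (f : MvPolynomial σ R) :
    ∃ r, f - r ∈ Ideal.span (Set.range g) ∧ ∀ c ∈ r.support, ∀ i, ¬ L i ≤ c := by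
  rcases subsingleton_or_nontrivial R with hR | hR
  · refine ⟨0, ?_, by simp⟩
    have : f = 0 := Subsingleton.elim _ _
    rw [this, sub_zero]
    exact Submodule.zero_mem _
  · obtain ⟨q, r, hfr, -, hrem⟩ := MonomialOrder.div (m := m) (b := g)
      (fun i => by rw [leadingCoeff_eq hr i]; exact isUnit_one) f
    refine ⟨r, ?_, fun c hc i => by rw [← degree_eq hr i]; exact hrem c hc i⟩
    have e : f - r = Finsupp.linearCombination _ g q := by
      rw [hfr]; ring
    rw [e, Finsupp.linearCombination_apply, Finsupp.sum]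
    exact Submodule.sum_mem _ fun i _ => by
      rw [smul_eq_mul]
      exact Ideal.mul_mem_left _ _ (Ideal.subset_span ⟨i, rfl⟩)

end Main

end Groth.Agent.Lib.Helper6.Groeb
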