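import Mathlib
import Groth.Prelude.Def_W4c5m1nsnscurvesC
import Groth.Agent.Lib.Helper6.Groeb.Buch

/-!
# Gröbner data for the curve algebra `CurveAlg R m v` (helper6), part 1:
monomial order on `CVar m`, the generators `g1 … g4`, monicity, comparison lemmas.
-/

set_option autoImplicit false
universe u

namespace Groth.Agent.Lib.Helper6.Groeb.Curve

open MvPolynomial W4c5m1nsnscurves Groth.Agent.Lib.Helper6.Groeb
open Finsupp (single)

variable {m : ℕ}

/-- rank of a variable: `x_i < x3 < x2` in the order on variables, i.e. `X x_i ≻ X x3 ≻ X x2`. -/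
def rk : CVar m → ℕ
  | .x2 => m + 1
  | .x3 => m
  | .xi i => i.val

theorem rk_injective : Function.Injective (rk (m := m)) := by
  intro x y h
  rcases x with _ | _ | i <;> rcases y with _ | _ | j <;> simp only [rk] at h
  · rfl
  · omega
  · have := j.isLt; omega
  · omega
  · rfl
  · have := j.isLt; omega
  · have := i.isLt; omega
  · have := i.isLt; omega
  · exact congrArg CVar.xi (Fin.ext h)

noncomputable instance instLinearOrderCVar : LinearOrder (CVar m) :=
  LinearOrder.lift' rk rk_injective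

theorem rk_lt (x : CVar m) : rk x < m + 2 := by
  rcases x with _ | _ | i
  · simp only [rk]; omega
  · simp only [rk]; omega
  · have := i.isLt; simp only [rk]; omega

instance instFiniteCVar : Finite (CVar m) :=
  Finite.of_injective (fun x => (⟨rk x, rk_lt x⟩ : Fin (m + 2)))
    (fun x y h => rk_injective (by simpa using congrArg Fin.val h))

instance instWFGTCVar : WellFoundedGT (CVar m) := Finite.to_wellFoundedGT

/-- the monomial order: degree-lexicographic with `X x_i ≻ X x3 ≻ X x2`. -/
noncomputable abbrev ord (m : ℕ) : MonomialOrder (CVar m) := MonomialOrder.degLex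

theorem lt_x3_xi (i : Fin m) :
    (ord m).toSyn (single CVar.x3 1) < (ord m).toSyn (single (CVar.xi i) 1) := by
  rw [MonomialOrder.degLex_single_lt_iff]
  show rk (CVar.xi i) < rk (CVar.x3 : CVar m)
  simp only [rk]; exact i.isLt

theorem lt_x2_xi (i : Fin m) :
    (ord m).toSyn (single CVar.x2 1) < (ord m).toSyn (single (CVar.xi i) 1) := by
  rw [MonomialOrder.degLex_single_lt_iff]
  show rk (CVar.xi i) < rk (CVar.x2 : CVar m)
  simp only [rk]; have := i.isLt; omega

theorem lt_x2_x3 :
    (ord m).toSyn (single (CVar.x2 : CVar m) 1) < (ord m).toSyn (single CVar.x3 1) := by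
  rw [MonomialOrder.degLex_single_lt_iff]
  show rk (CVar.x3 : CVar m) < rk (CVar.x2 : CVar m)
  simp only [rk]; omega

theorem lt_of_degree_lt {a b : CVar m →₀ ℕ} (h : a.degree < b.degree) :
    (ord m).toSyn a < (ord m).toSyn b := by
  rw [MonomialOrder.degLex_lt_iff, Finsupp.DegLex.lt_iff]
  exact Or.inl h

theorem lt_swap (c : CVar m →₀ ℕ) {s t : CVar m}
    (h : (ord m).toSyn (single s 1) < (ord m).toSyn (single t 1)) {a b : CVar m →₀ ℕ}
    (ha : a = c + single s 1) (hb : b = c + single t 1) :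
    (ord m).toSyn a < (ord m).toSyn b := by
  rw [ha, hb, map_add, map_add]
  exact (add_lt_add_iff_left _).mpr h

section gens

variable {R : Type u} [CommRing R] (v : UGen m → R) (d0 : R)

noncomputable def g1 (i : Fin m) : MvPolynomial (CVar m) R :=
  X .x2 * X (.xi i) -
    (X .x2 * X .x3 + C (v (.ci i)) * X (.xi i) + C (v (.cbi i)) * X .x2 - C (v .c))

noncomputable def g2 (i : Fin m) : MvPolynomial (CVar m) R :=
  X .x3 * X (.xi i) -
    (X .x2 * X .x3 + C (v .a + v (.ci i) + v (.cbi i)) * (X (.xi i) - C (v (.cbi i))) +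
      C (v .cb) - C (v .c))

noncomputable def g3 (i j : Fin m) (h : i ≠ j) : MvPolynomial (CVar m) R :=
  X (.xi i) * X (.xi j) -
    (X .x2 * X .x3 + C (v (.cij i j h)) * X (.xi j) + C (v (.cij j i h.symm)) * X (.xi i) -
      C (v .c))

noncomputable def g4 : MvPolynomial (CVar m) R :=
  X .x2 * X .x3 * X .x3 -
    (X .x2 * X .x2 * X .x3 + C (v .a) * (X .x2 * X .x3) + C (v .cb - v .c) * X .x2 +
      C (v .c) * X .x3 + C d0)

theorem g3_symm (i j : Fin m) (h : i ≠ j) : g3 v i j h = g3 v j i h.symm := by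
  simp only [g3]; ring

/-- index type of the Gröbner basis -/
inductive Idx (m : ℕ) : Type
  | g1 (i : Fin m) : Idx m
  | g2 (i : Fin m) : Idx m
  | g3 (q : DPair m) : Idx m
  | g4 : Idx m

/-- leading exponents -/
noncomputable def LL : Idx m → (CVar m →₀ ℕ)
  | .g1 i => single CVar.x2 1 + single (CVar.xi i) 1
  | .g2 i => single CVar.x3 1 + single (CVar.xi i) 1
  | .g3 q => single (CVar.xi q.1.1) 1 + single (CVar.xi q.1.2) 1
  | .g4 => single CVar.x2 1 + single CVar.x3 1 + single CVar.x3 1

/-- the Gröbner basis -/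
noncomputable def gg : Idx m → MvPolynomial (CVar m) R
  | .g1 i => g1 v i
  | .g2 i => g2 v i
  | .g3 q => g3 v q.1.1 q.1.2 q.2
  | .g4 => g4 v d0

theorem XXX_eq {σ : Type*} (s t w : σ) :
    (X s * X t * X w : MvPolynomial σ R) = monomial (single s 1 + single t 1 + single w 1) 1 := by
  simp only [X, monomial_mul, mul_one]

theorem SuppP_XXX {σ : Type*} {P : (σ →₀ ℕ) → Prop} {s t w : σ}
    (h : P (single s 1 + single t 1 + single w 1)) :
    SuppP P (X s * X t * X w : MvPolynomial σ R) := by
  rw [XXX_eq]; exact SuppP.monomial h 1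

end gens

/-- degree comparison tactic -/
macro "cmpdeg" : tactic =>
  `(tactic| (show (ord _).toSyn _ < (ord _).toSyn _
             apply lt_of_degree_lt
             simp only [LL, map_add, map_zero, Finsupp.degree_single]
             norm_num))

section monic

variable {R : Type u} [CommRing R] (v : UGen m → R) (d0 : R)

theorem monic_gg : Monic' (ord m) LL (gg v d0) := by
  intro l
  cases l with
  | g1 i =>
    show SuppP _ (g1 v i - monomial (single CVar.x2 1 + single (CVar.xi i) 1) 1)
    rw [← XX_eq, g1, sub_sub_cancel_left]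
    refine SuppP.neg ?_
    refine (((SuppP.XX ?_).add (SuppP.C_mul (SuppP.X ?_) _)).add
      (SuppP.C_mul (SuppP.X ?_) _)).sub (SuppP.C ?_ _)
    · exact lt_swap (single CVar.x2 1) (lt_x3_xi i) rfl rfl
    · cmpdeg
    · cmpdeg
    · cmpdeg
  | g2 i =>
    show SuppP _ (g2 v i - monomial (single CVar.x3 1 + single (CVar.xi i) 1) 1)
    rw [← XX_eq, g2, sub_sub_cancel_left]
    refine SuppP.neg ?_
    refine (((SuppP.XX ?_).add (SuppP.C_mul ((SuppP.X ?_).sub (SuppP.C ?_ _)) _)).add
      (SuppP.C ?_ _)).sub (SuppP.C ?_ _)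
    · exact lt_swap (single CVar.x3 1) (lt_x2_xi i) (by abel) rfl
    · cmpdeg
    · cmpdeg
    · cmpdeg
    · cmpdeg
  | g3 q =>
    obtain ⟨⟨i, j⟩, hij⟩ := q
    show SuppP _ (g3 v i j hij - monomial (single (CVar.xi i) 1 + single (CVar.xi j) 1) 1)
    rw [← XX_eq, g3, sub_sub_cancel_left]
    refine SuppP.neg ?_
    refine (((SuppP.XX ?_).add (SuppP.C_mul (SuppP.X ?_) _)).add
      (SuppP.C_mul (SuppP.X ?_) _)).sub (SuppP.C ?_ _)
    · show (ord m).toSyn (single CVar.x2 1 + single CVar.x3 1) <
        (ord m).toSyn (single (CVar.xi i) 1 + single (CVar.xi j) 1)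
      exact lt_trans
        (lt_swap (single CVar.x2 1) (lt_x3_xi j) (b := single CVar.x2 1 + single (CVar.xi j) 1)
          rfl rfl)
        (lt_swap (single (CVar.xi j) 1) (lt_x2_xi i) (by abel) (by abel))
    · cmpdeg
    · cmpdeg
    · cmpdeg
  | g4 =>
    show SuppP _ (g4 v d0 - monomial (single CVar.x2 1 + single CVar.x3 1 + single CVar.x3 1) 1)
    rw [← XXX_eq, g4, sub_sub_cancel_left]
    refine SuppP.neg ?_
    refine ((((SuppP_XXX ?_).add (SuppP.C_mul (SuppP.XX ?_) _)).add
      (SuppP.C_mul (SuppP.X ?_) _)).add (SuppP.C_mul (SuppP.X ?_) _)).add (SuppP.C ?_ _)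
    · exact lt_swap (single CVar.x2 1 + single CVar.x3 1) lt_x2_x3 (by abel) rfl
    · cmpdeg
    · cmpdeg
    · cmpdeg
    · cmpdeg

end monic

/-! ### same-degree comparisons used in the S-pair representations -/

theorem c1 (i : Fin m) :
    (ord m).toSyn (0 + (single CVar.x2 1 + single CVar.x3 1 + single CVar.x3 1)) <
      (ord m).toSyn (single CVar.x3 1 + (single CVar.x2 1 + single (CVar.xi i) 1)) :=
  lt_swap (single CVar.x2 1 + single CVar.x3 1) (lt_x3_xi i) (by abel) (by abel)

theorem c2 (i j : Fin m) :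
    (ord m).toSyn (single CVar.x3 1 + (single CVar.x2 1 + single (CVar.xi j) 1)) <
      (ord m).toSyn (single (CVar.xi j) 1 + (single CVar.x2 1 + single (CVar.xi i) 1)) :=
  lt_swap (single CVar.x2 1 + single (CVar.xi j) 1) (lt_x3_xi i) (by abel) (by abel)

theorem c3 (i j : Fin m) :
    (ord m).toSyn (0 + (single CVar.x2 1 + single CVar.x3 1 + single CVar.x3 1)) <
      (ord m).toSyn (single (CVar.xi j) 1 + (single CVar.x2 1 + single (CVar.xi i) 1)) :=
  lt_trans
    (lt_swap (single CVar.x2 1 + single CVar.x3 1) (lt_x3_xi i)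
      (b := single CVar.x2 1 + single CVar.x3 1 + single (CVar.xi i) 1) (by abel) rfl)
    (lt_swap (single CVar.x2 1 + single (CVar.xi i) 1) (lt_x3_xi j) (by abel) (by abel))

theorem c4 (i j : Fin m) :
    (ord m).toSyn (single CVar.x3 1 + (single CVar.x2 1 + single (CVar.xi j) 1)) <
      (ord m).toSyn (single (CVar.xi j) 1 + (single CVar.x3 1 + single (CVar.xi i) 1)) :=
  lt_swap (single CVar.x3 1 + single (CVar.xi j) 1) (lt_x2_xi i) (by abel) (by abel)

theorem c5 (i j k : Fin m) :
    (ord m).toSyn (single CVar.x3 1 + (single CVar.x2 1 + single (CVar.xi j) 1)) <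
      (ord m).toSyn (single (CVar.xi k) 1 + (single (CVar.xi i) 1 + single (CVar.xi j) 1)) :=
  lt_trans
    (lt_swap (single CVar.x2 1 + single (CVar.xi j) 1) (lt_x3_xi k)
      (b := single CVar.x2 1 + single (CVar.xi j) 1 + single (CVar.xi k) 1) (by abel) rfl)
    (lt_swap (single (CVar.xi j) 1 + single (CVar.xi k) 1) (lt_x2_xi i) (by abel) (by abel))

theorem c6 (i j k : Fin m) :
    (ord m).toSyn (single CVar.x3 1 + (single CVar.x2 1 + single (CVar.xi k) 1)) <
      (ord m).toSyn (single (CVar.xi k) 1 + (single (CVar.xi i) 1 + single (CVar.xi j) 1)) :=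
  lt_trans
    (lt_swap (single CVar.x2 1 + single (CVar.xi k) 1) (lt_x3_xi j)
      (b := single CVar.x2 1 + single (CVar.xi k) 1 + single (CVar.xi j) 1) (by abel) rfl)
    (lt_swap (single (CVar.xi k) 1 + single (CVar.xi j) 1) (lt_x2_xi i) (by abel) (by abel))

theorem c7 (i : Fin m) :
    (ord m).toSyn ((single CVar.x2 1 + single CVar.x3 1) + (single CVar.x2 1 + single (CVar.xi i) 1)) <
      (ord m).toSyn ((single CVar.x2 1 + single CVar.x3 1) + (single CVar.x3 1 + single (CVar.xi i) 1)) :=
  lt_swap (single CVar.x2 1 + single CVar.x3 1 + single (CVar.xi i) 1) lt_x2_x3 (by abel) (by abel)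

/-! ### disjointness of exponent vectors -/

section inf

variable {σ : Type*}

theorem inf_eq_zero_of {a b : σ →₀ ℕ} (h : ∀ s, a s = 0 ∨ b s = 0) : a ⊓ b = 0 := by
  ext s
  rw [Finsupp.inf_apply, Finsupp.coe_zero, Pi.zero_apply]
  rcases h s with h | h <;> simp [h]

theorem single_inf_single {s t : σ} (h : s ≠ t) : (single s 1 : σ →₀ ℕ) ⊓ single t 1 = 0 :=
  inf_eq_zero_of fun x => by
    by_cases hx : x = s
    · right; exact Finsupp.single_eq_of_ne (by rw [hx]; exact h)
    · left; exact Finsupp.single_eq_of_ne hx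

theorem pair_inf_single {a b c : σ} (h1 : a ≠ c) (h2 : b ≠ c) :
    (single a 1 + single b 1 : σ →₀ ℕ) ⊓ single c 1 = 0 :=
  inf_eq_zero_of fun x => by
    by_cases hx : x = c
    · left
      rw [Finsupp.add_apply, Finsupp.single_eq_of_ne (by rw [hx]; exact h1.symm),
        Finsupp.single_eq_of_ne (by rw [hx]; exact h2.symm)]
      rfl
    · right; exact Finsupp.single_eq_of_ne hx

theorem pair_inf_pair {a b c d : σ} (h1 : a ≠ c) (h2 : a ≠ d) (h3 : b ≠ c) (h4 : b ≠ d) :
    (single a 1 + single b 1 : σ →₀ ℕ) ⊓ (single c 1 + single d 1) = 0 :=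
  inf_eq_zero_of fun x => by
    by_cases hxc : x = c
    · left
      rw [Finsupp.add_apply, Finsupp.single_eq_of_ne (by rw [hxc]; exact h1.symm),
        Finsupp.single_eq_of_ne (by rw [hxc]; exact h3.symm)]
      rfl
    · by_cases hxd : x = d
      · left
        rw [Finsupp.add_apply, Finsupp.single_eq_of_ne (by rw [hxd]; exact h2.symm),
          Finsupp.single_eq_of_ne (by rw [hxd]; exact h4.symm)]
        rfl
      · right
        rw [Finsupp.add_apply, Finsupp.single_eq_of_ne hxc, Finsupp.single_eq_of_ne hxd]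
        rfl

theorem pair_inf_triple {a b c d e : σ} (h1 : a ≠ c) (h2 : a ≠ d) (h3 : a ≠ e) (h4 : b ≠ c)
    (h5 : b ≠ d) (h6 : b ≠ e) :
    (single a 1 + single b 1 : σ →₀ ℕ) ⊓ (single c 1 + single d 1 + single e 1) = 0 :=
  inf_eq_zero_of fun x => by
    by_cases hxa : x = a
    · right
      rw [Finsupp.add_apply, Finsupp.add_apply, Finsupp.single_eq_of_ne (by rw [hxa]; exact h1),
        Finsupp.single_eq_of_ne (by rw [hxa]; exact h2),
        Finsupp.single_eq_of_ne (by rw [hxa]; exact h3)]
      rfl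
    · by_cases hxb : x = b
      · right
        rw [Finsupp.add_apply, Finsupp.add_apply, Finsupp.single_eq_of_ne (by rw [hxb]; exact h4),
          Finsupp.single_eq_of_ne (by rw [hxb]; exact h5),
          Finsupp.single_eq_of_ne (by rw [hxb]; exact h6)]
        rfl
      · left
        rw [Finsupp.add_apply, Finsupp.single_eq_of_ne hxa, Finsupp.single_eq_of_ne hxb]
        rfl

end inf

end Groth.Agent.Lib.Helper6.Groeb.Curve
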