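import Mathlib
import Groth.Prelude.Def_W4c5m1nsnscurvesC
import Groth.Agent.Lib.Helper6.Groeb.CurveGB1

/-!
# Gröbner data for the curve algebra (helper6), part 2: the S-pair identities
(machine-generated by a small computer-algebra script; each identity is checked by `ring`).
-/

set_option autoImplicit false
set_option linter.unusedVariables false
universe u

namespace Groth.Agent.Lib.Helper6.Groeb.Curve

open MvPolynomial W4c5m1nsnscurves Groth.Agent.Lib.Helper6.Groeb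
open Finsupp (single)

variable {m : ℕ} {R : Type u} [CommRing R]

/-- the relations of `U_n` on the values `v`, together with `d0 = d_i` for all `i`. -/
structure UHyp (v : UGen m → R) (d0 : R) : Prop where
  lin : ∀ (i j : Fin m) (h : i ≠ j), v (.cij i j h) + v (.cij j i h.symm) -
    (v .a + v (.ci i) + v (.cbi i) + v (.ci j) + v (.cbi j)) = 0
  qc : ∀ (i j : Fin m) (h : i ≠ j), v (.cij j i h.symm) * v (.ci j) + v (.cij i j h) * v (.ci i) -
    v (.ci i) * v (.ci j) - v .c = 0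
  qb : ∀ (i j : Fin m) (h : i ≠ j), v (.cij j i h.symm) * v (.cbi i) + v (.cij i j h) * v (.cbi j) -
    v (.cbi i) * v (.cbi j) - v .cb = 0
  tr : ∀ (i j k : Fin m) (hij : i ≠ j) (hjk : j ≠ k) (hik : i ≠ k),
    v (.cij i j hij) * v (.cij j k hjk) + v (.cij j i hij.symm) * v (.cij i k hik) -
      v (.cij i k hik) * v (.cij j k hjk) + (v .a + v (.ci k) + v (.cbi k)) * v (.ci k) - v .c = 0
  dd : ∀ i : Fin m, v (.ci i) * v (.cbi i) * (v .a + v (.ci i) + v (.cbi i)) - v (.ci i) * v .cb -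
    (v .a + v (.cbi i)) * v .c - d0 = 0

/-- remainder coefficient of `1` in the S-pair `P1` -/
def r1a (v : UGen m → R) (d0 : R) (i : Fin m) : R :=
  v UGen.a * v (UGen.cbi i) * v (UGen.ci i) + v (UGen.cbi i) * v (UGen.ci i) * v (UGen.ci i) + v (UGen.cbi i) * v (UGen.cbi i) * v (UGen.ci i) - v UGen.a * v UGen.c - v (UGen.cbi i) * v UGen.c - v UGen.cb * v (UGen.ci i) - d0

theorem P1_id (v : UGen m → R) (d0 : R) (i : Fin m) :
    X CVar.x3 * g1 v i - X CVar.x2 * g2 v i =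
      (C (v UGen.a + v (UGen.cbi i) + v (UGen.ci i))) * g1 v i
      + (C (-v (UGen.ci i))) * g2 v i
      + (C (-1)) * g4 v d0
      + C (r1a v d0 i) := by
  simp only [g1, g2, g3, g4, r1a, map_add, map_sub, map_mul, map_neg, map_one]
  ring

theorem r1a_zero {v : UGen m → R} {d0 : R} (hU : UHyp v d0) (i : Fin m) : r1a v d0 i = 0 := by
  unfold r1a
  linear_combination (exp := 1) (1) * hU.dd i

theorem P1_mem {v : UGen m → R} {d0 : R} (hU : UHyp v d0) (i : Fin m) :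
    X CVar.x3 * g1 v i - X CVar.x2 * g2 v i ∈ Mlt (ord m) LL (gg v d0) (single CVar.x3 1 + (single CVar.x2 1 + single (CVar.xi i) 1)) := by
  rw [P1_id v d0 i, r1a_zero hU i]
  simp only [map_zero, zero_mul, add_zero]
  exact Submodule.add_mem _ (Submodule.add_mem _ ((mul_mem_Mlt (ord m) LL (gg v d0) (l := Idx.g1 i) (SuppP.C (by cmpdeg) _)))
    (mul_mem_Mlt (ord m) LL (gg v d0) (l := Idx.g2 i) (SuppP.C (by cmpdeg) _)))
    (mul_mem_Mlt (ord m) LL (gg v d0) (l := Idx.g4) (SuppP.C (c1 i) _))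

/-- remainder coefficient of `+x2*x3` in the S-pair `P3` -/
def r3a (v : UGen m → R) (d0 : R) (i j : Fin m) (hij : i ≠ j) : R :=
  -v UGen.a - v (UGen.cbi i) - v (UGen.cbi j) - v (UGen.ci i) + v (UGen.cij i j hij) - v (UGen.ci j) + v (UGen.cij j i hij.symm)

/-- remainder coefficient of `+xj` in the S-pair `P3` -/
def r3b (v : UGen m → R) (d0 : R) (i j : Fin m) (hij : i ≠ j) : R :=
  -v UGen.a * v (UGen.ci j) - v (UGen.cbi i) * v (UGen.ci j) - v (UGen.cbi j) * v (UGen.ci j) - v (UGen.ci i) * v (UGen.cij i j hij) + v (UGen.cij i j hij) * v (UGen.ci j) - v (UGen.ci j) * v (UGen.ci j) + v UGen.c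

/-- remainder coefficient of `+x2` in the S-pair `P3` -/
def r3c (v : UGen m → R) (d0 : R) (i j : Fin m) (hij : i ≠ j) : R :=
  -v (UGen.cbi i) * v (UGen.cbi j) + v (UGen.cbi i) * v (UGen.cij j i hij.symm) + v (UGen.cbi j) * v (UGen.cij i j hij) - v UGen.cb

/-- remainder coefficient of `1` in the S-pair `P3` -/
def r3d (v : UGen m → R) (d0 : R) (i j : Fin m) (hij : i ≠ j) : R :=
  v UGen.a * v (UGen.cbi j) * v (UGen.ci j) + v (UGen.cbi j) * v (UGen.ci j) * v (UGen.ci j) + v (UGen.cbi j) * v (UGen.cbi j) * v (UGen.ci j) + v (UGen.cbi i) * v UGen.c + v UGen.c * v (UGen.ci i) - v UGen.c * v (UGen.cij i j hij) + v UGen.c * v (UGen.ci j) - v UGen.c * v (UGen.cij j i hij.symm) - v UGen.cb * v (UGen.ci j) - d0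

theorem P3_id (v : UGen m → R) (d0 : R) (i j : Fin m) (hij : i ≠ j) :
    X (CVar.xi j) * g1 v i - X CVar.x2 * g3 v i j hij =
      (C (v (UGen.cij j i hij.symm))) * g1 v i
      + (C (-1) * (X CVar.x3) + C (-v (UGen.cbi i) + v (UGen.cij i j hij))) * g1 v j
      + (C (-v (UGen.ci j))) * g2 v j
      + (C (-v (UGen.ci i))) * g3 v i j hij
      + (C (-1)) * g4 v d0
      + C (r3a v d0 i j hij) * (X CVar.x2 * X CVar.x3)
      + C (r3b v d0 i j hij) * (X (CVar.xi j))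
      + C (r3c v d0 i j hij) * (X CVar.x2)
      + C (r3d v d0 i j hij) := by
  simp only [g1, g2, g3, g4, r3a, r3b, r3c, r3d, map_add, map_sub, map_mul, map_neg, map_one]
  ring

theorem r3a_zero {v : UGen m → R} {d0 : R} (hU : UHyp v d0) (i j : Fin m) (hij : i ≠ j) : r3a v d0 i j hij = 0 := by
  unfold r3a
  linear_combination (exp := 1) (1) * hU.lin i j hij

theorem r3b_zero {v : UGen m → R} {d0 : R} (hU : UHyp v d0) (i j : Fin m) (hij : i ≠ j) : r3b v d0 i j hij = 0 := by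
  unfold r3b
  linear_combination (exp := 1) (-1) * hU.qc i j hij + (v (UGen.ci j)) * hU.lin i j hij

theorem r3c_zero {v : UGen m → R} {d0 : R} (hU : UHyp v d0) (i j : Fin m) (hij : i ≠ j) : r3c v d0 i j hij = 0 := by
  unfold r3c
  linear_combination (exp := 1) (1) * hU.qb i j hij

theorem r3d_zero {v : UGen m → R} {d0 : R} (hU : UHyp v d0) (i j : Fin m) (hij : i ≠ j) : r3d v d0 i j hij = 0 := by
  unfold r3d
  linear_combination (exp := 1) (1) * hU.dd j + (-v UGen.c) * hU.lin i j hij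

theorem P3_mem {v : UGen m → R} {d0 : R} (hU : UHyp v d0) (i j : Fin m) (hij : i ≠ j) :
    X (CVar.xi j) * g1 v i - X CVar.x2 * g3 v i j hij ∈ Mlt (ord m) LL (gg v d0) (single (CVar.xi j) 1 + (single CVar.x2 1 + single (CVar.xi i) 1)) := by
  rw [P3_id v d0 i j hij, r3a_zero hU i j hij, r3b_zero hU i j hij, r3c_zero hU i j hij, r3d_zero hU i j hij]
  simp only [map_zero, zero_mul, add_zero]
  exact Submodule.add_mem _ (Submodule.add_mem _ (Submodule.add_mem _ (Submodule.add_mem _ ((mul_mem_Mlt (ord m) LL (gg v d0) (l := Idx.g1 i) (SuppP.C (by cmpdeg) _)))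
    (mul_mem_Mlt (ord m) LL (gg v d0) (l := Idx.g1 j) ((SuppP.C_mul (SuppP.X (c2 i j)) _).add (SuppP.C (by cmpdeg) _))))
    (mul_mem_Mlt (ord m) LL (gg v d0) (l := Idx.g2 j) (SuppP.C (by cmpdeg) _)))
    (mul_mem_Mlt (ord m) LL (gg v d0) (l := Idx.g3 ⟨(i, j), hij⟩) (SuppP.C (by cmpdeg) _)))
    (mul_mem_Mlt (ord m) LL (gg v d0) (l := Idx.g4) (SuppP.C (c3 i j) _))

/-- remainder coefficient of `+x2*x3` in the S-pair `P4` -/
def r4a (v : UGen m → R) (d0 : R) (i j : Fin m) (hij : i ≠ j) : R :=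
  -v UGen.a - v (UGen.cbi i) - v (UGen.cbi j) - v (UGen.ci i) + v (UGen.cij i j hij) - v (UGen.ci j) + v (UGen.cij j i hij.symm)

/-- remainder coefficient of `+xj` in the S-pair `P4` -/
def r4b (v : UGen m → R) (d0 : R) (i j : Fin m) (hij : i ≠ j) : R :=
  v UGen.a * v (UGen.cbi i) - v UGen.a * v (UGen.ci j) + v (UGen.cbi i) * v (UGen.ci i) - v (UGen.cbi i) * v (UGen.cij i j hij) + v (UGen.cbi i) * v (UGen.cbi i) + v (UGen.cbi j) * v (UGen.cij i j hij) - v (UGen.cbi j) * v (UGen.ci j) - v (UGen.ci i) * v (UGen.cij i j hij) + v (UGen.cij i j hij) * v (UGen.ci j) - v (UGen.ci j) * v (UGen.ci j) + v UGen.c - v UGen.cb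

/-- remainder coefficient of `1` in the S-pair `P4` -/
def r4c (v : UGen m → R) (d0 : R) (i j : Fin m) (hij : i ≠ j) : R :=
  -v UGen.a * v (UGen.cbi i) * v (UGen.cij j i hij.symm) - v UGen.a * v (UGen.cbi j) * v (UGen.cij i j hij) + v UGen.a * v (UGen.cbi j) * v (UGen.ci j) - v (UGen.cbi i) * v (UGen.ci i) * v (UGen.cij j i hij.symm) - v (UGen.cbi i) * v (UGen.cbi i) * v (UGen.cij j i hij.symm) - v (UGen.cbi j) * v (UGen.cij i j hij) * v (UGen.ci j) + v (UGen.cbi j) * v (UGen.ci j) * v (UGen.ci j) - v (UGen.cbi j) * v (UGen.cbi j) * v (UGen.cij i j hij) + v (UGen.cbi j) * v (UGen.cbi j) * v (UGen.ci j) + v UGen.a * v UGen.c + v (UGen.cbi i) * v UGen.c + v UGen.c * v (UGen.ci i) - v UGen.c * v (UGen.cij i j hij) + v UGen.c * v (UGen.ci j) - v UGen.c * v (UGen.cij j i hij.symm) + v UGen.cb * v (UGen.cij i j hij) - v UGen.cb * v (UGen.ci j) + v UGen.cb * v (UGen.cij j i hij.symm)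

theorem P4_id (v : UGen m → R) (d0 : R) (i j : Fin m) (hij : i ≠ j) :
    X (CVar.xi j) * g2 v i - X CVar.x3 * g3 v i j hij =
      (C (v (UGen.cij j i hij.symm))) * g2 v i
      + (C (-1) * (X CVar.x3)) * g1 v j
      + (C (v (UGen.cij i j hij) - v (UGen.ci j))) * g2 v j
      + (C (-v UGen.a - v (UGen.cbi i) - v (UGen.ci i))) * g3 v i j hij
      + C (r4a v d0 i j hij) * (X CVar.x2 * X CVar.x3)
      + C (r4b v d0 i j hij) * (X (CVar.xi j))
      + C (r4c v d0 i j hij) := by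
  simp only [g1, g2, g3, g4, r4a, r4b, r4c, map_add, map_sub, map_mul, map_neg, map_one]
  ring

theorem r4a_zero {v : UGen m → R} {d0 : R} (hU : UHyp v d0) (i j : Fin m) (hij : i ≠ j) : r4a v d0 i j hij = 0 := by
  unfold r4a
  linear_combination (exp := 1) (1) * hU.lin i j hij

theorem r4b_zero {v : UGen m → R} {d0 : R} (hU : UHyp v d0) (i j : Fin m) (hij : i ≠ j) : r4b v d0 i j hij = 0 := by
  unfold r4b
  linear_combination (exp := 1) (-1) * hU.qc i j hij + (1) * hU.qb i j hij + (-v (UGen.cbi i) + v (UGen.ci j)) * hU.lin i j hij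

theorem r4c_zero {v : UGen m → R} {d0 : R} (hU : UHyp v d0) (i j : Fin m) (hij : i ≠ j) : r4c v d0 i j hij = 0 := by
  unfold r4c
  linear_combination (exp := 1) (v (UGen.cbi i) * v (UGen.cbi j) - v (UGen.cbi j) * v (UGen.ci j) - v UGen.c + v UGen.cb) * hU.lin i j hij + (v (UGen.cbi j)) * hU.qc i j hij + (-v UGen.a - v (UGen.cbi i) - v (UGen.cbi j) - v (UGen.ci i)) * hU.qb i j hij

theorem P4_mem {v : UGen m → R} {d0 : R} (hU : UHyp v d0) (i j : Fin m) (hij : i ≠ j) :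
    X (CVar.xi j) * g2 v i - X CVar.x3 * g3 v i j hij ∈ Mlt (ord m) LL (gg v d0) (single (CVar.xi j) 1 + (single CVar.x3 1 + single (CVar.xi i) 1)) := by
  rw [P4_id v d0 i j hij, r4a_zero hU i j hij, r4b_zero hU i j hij, r4c_zero hU i j hij]
  simp only [map_zero, zero_mul, add_zero]
  exact Submodule.add_mem _ (Submodule.add_mem _ (Submodule.add_mem _ ((mul_mem_Mlt (ord m) LL (gg v d0) (l := Idx.g2 i) (SuppP.C (by cmpdeg) _)))
    (mul_mem_Mlt (ord m) LL (gg v d0) (l := Idx.g1 j) (SuppP.C_mul (SuppP.X (c4 i j)) _)))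
    (mul_mem_Mlt (ord m) LL (gg v d0) (l := Idx.g2 j) (SuppP.C (by cmpdeg) _)))
    (mul_mem_Mlt (ord m) LL (gg v d0) (l := Idx.g3 ⟨(i, j), hij⟩) (SuppP.C (by cmpdeg) _))

/-- remainder coefficient of `+x2*x3` in the S-pair `P6` -/
def r6a (v : UGen m → R) (d0 : R) (i j k : Fin m) (hij : i ≠ j) (hik : i ≠ k) (hjk : j ≠ k) : R :=
  v (UGen.cbi j) - v (UGen.cbi k) - v (UGen.cij i j hij) + v (UGen.cij i k hik) + v (UGen.ci j) - v (UGen.cij j i hij.symm) - v (UGen.ci k) + v (UGen.cij k i hik.symm)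

/-- remainder coefficient of `+xj` in the S-pair `P6` -/
def r6b (v : UGen m → R) (d0 : R) (i j k : Fin m) (hij : i ≠ j) (hik : i ≠ k) (hjk : j ≠ k) : R :=
  v UGen.a * v (UGen.ci j) + v (UGen.cbi j) * v (UGen.ci j) + v (UGen.cij i j hij) * v (UGen.cij k i hik.symm) - v (UGen.cij i j hij) * v (UGen.cij k j hjk.symm) + v (UGen.cij i k hik) * v (UGen.cij k j hjk.symm) + v (UGen.ci j) * v (UGen.ci j) - v UGen.c

/-- remainder coefficient of `+xk` in the S-pair `P6` -/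
def r6c (v : UGen m → R) (d0 : R) (i j k : Fin m) (hij : i ≠ j) (hik : i ≠ k) (hjk : j ≠ k) : R :=
  -v UGen.a * v (UGen.ci k) - v (UGen.cbi k) * v (UGen.ci k) - v (UGen.cij i j hij) * v (UGen.cij j k hjk) - v (UGen.cij i k hik) * v (UGen.cij j i hij.symm) + v (UGen.cij i k hik) * v (UGen.cij j k hjk) - v (UGen.ci k) * v (UGen.ci k) + v UGen.c

/-- remainder coefficient of `1` in the S-pair `P6` -/
def r6d (v : UGen m → R) (d0 : R) (i j k : Fin m) (hij : i ≠ j) (hik : i ≠ k) (hjk : j ≠ k) : R :=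
  -v UGen.a * v (UGen.cbi j) * v (UGen.ci j) + v UGen.a * v (UGen.cbi k) * v (UGen.ci k) - v (UGen.cbi j) * v (UGen.ci j) * v (UGen.ci j) - v (UGen.cbi j) * v (UGen.cbi j) * v (UGen.ci j) + v (UGen.cbi k) * v (UGen.ci k) * v (UGen.ci k) + v (UGen.cbi k) * v (UGen.cbi k) * v (UGen.ci k) + v UGen.c * v (UGen.cij i j hij) - v UGen.c * v (UGen.cij i k hik) - v UGen.c * v (UGen.ci j) + v UGen.c * v (UGen.cij j i hij.symm) + v UGen.c * v (UGen.ci k) - v UGen.c * v (UGen.cij k i hik.symm) + v UGen.cb * v (UGen.ci j) - v UGen.cb * v (UGen.ci k)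

theorem P6_id (v : UGen m → R) (d0 : R) (i j k : Fin m) (hij : i ≠ j) (hik : i ≠ k) (hjk : j ≠ k) :
    X (CVar.xi k) * g3 v i j hij - X (CVar.xi j) * g3 v i k hik =
      (C (1) * (X CVar.x3)) * g1 v j
      + (C (v (UGen.ci j))) * g2 v j
      + (C (-1) * (X CVar.x3)) * g1 v k
      + (C (-v (UGen.ci k))) * g2 v k
      + (C (v (UGen.cij k i hik.symm))) * g3 v i j hij
      + (C (-v (UGen.cij j i hij.symm))) * g3 v i k hik
      + (C (-v (UGen.cij i j hij) + v (UGen.cij i k hik))) * g3 v j k hjk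
      + C (r6a v d0 i j k hij hik hjk) * (X CVar.x2 * X CVar.x3)
      + C (r6b v d0 i j k hij hik hjk) * (X (CVar.xi j))
      + C (r6c v d0 i j k hij hik hjk) * (X (CVar.xi k))
      + C (r6d v d0 i j k hij hik hjk) := by
  simp only [g1, g2, g3, g4, r6a, r6b, r6c, r6d, map_add, map_sub, map_mul, map_neg, map_one]
  ring

theorem r6a_zero {v : UGen m → R} {d0 : R} (hU : UHyp v d0) (i j k : Fin m) (hij : i ≠ j) (hik : i ≠ k) (hjk : j ≠ k) : r6a v d0 i j k hij hik hjk = 0 := by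
  unfold r6a
  linear_combination (exp := 1) (1) * hU.lin i k hik + (-1) * hU.lin i j hij

theorem r6b_zero {v : UGen m → R} {d0 : R} (hU : UHyp v d0) (i j k : Fin m) (hij : i ≠ j) (hik : i ≠ k) (hjk : j ≠ k) : r6b v d0 i j k hij hik hjk = 0 := by
  unfold r6b
  linear_combination (exp := 1) (1) * hU.tr i k j hik hjk.symm hij

theorem r6c_zero {v : UGen m → R} {d0 : R} (hU : UHyp v d0) (i j k : Fin m) (hij : i ≠ j) (hik : i ≠ k) (hjk : j ≠ k) : r6c v d0 i j k hij hik hjk = 0 := by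
  unfold r6c
  linear_combination (exp := 1) (-1) * hU.tr i j k hij hjk hik

theorem r6d_zero {v : UGen m → R} {d0 : R} (hU : UHyp v d0) (i j k : Fin m) (hij : i ≠ j) (hik : i ≠ k) (hjk : j ≠ k) : r6d v d0 i j k hij hik hjk = 0 := by
  unfold r6d
  linear_combination (exp := 1) (1) * hU.dd k + (-1) * hU.dd j + (v UGen.c) * hU.lin i j hij + (-v UGen.c) * hU.lin i k hik

theorem P6_mem {v : UGen m → R} {d0 : R} (hU : UHyp v d0) (i j k : Fin m) (hij : i ≠ j) (hik : i ≠ k) (hjk : j ≠ k) :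
    X (CVar.xi k) * g3 v i j hij - X (CVar.xi j) * g3 v i k hik ∈ Mlt (ord m) LL (gg v d0) (single (CVar.xi k) 1 + (single (CVar.xi i) 1 + single (CVar.xi j) 1)) := by
  rw [P6_id v d0 i j k hij hik hjk, r6a_zero hU i j k hij hik hjk, r6b_zero hU i j k hij hik hjk, r6c_zero hU i j k hij hik hjk, r6d_zero hU i j k hij hik hjk]
  simp only [map_zero, zero_mul, add_zero]
  exact Submodule.add_mem _ (Submodule.add_mem _ (Submodule.add_mem _ (Submodule.add_mem _ (Submodule.add_mem _ (Submodule.add_mem _ ((mul_mem_Mlt (ord m) LL (gg v d0) (l := Idx.g1 j) (SuppP.C_mul (SuppP.X (c5 i j k)) _)))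
    (mul_mem_Mlt (ord m) LL (gg v d0) (l := Idx.g2 j) (SuppP.C (by cmpdeg) _)))
    (mul_mem_Mlt (ord m) LL (gg v d0) (l := Idx.g1 k) (SuppP.C_mul (SuppP.X (c6 i j k)) _)))
    (mul_mem_Mlt (ord m) LL (gg v d0) (l := Idx.g2 k) (SuppP.C (by cmpdeg) _)))
    (mul_mem_Mlt (ord m) LL (gg v d0) (l := Idx.g3 ⟨(i, j), hij⟩) (SuppP.C (by cmpdeg) _)))
    (mul_mem_Mlt (ord m) LL (gg v d0) (l := Idx.g3 ⟨(i, k), hik⟩) (SuppP.C (by cmpdeg) _)))
    (mul_mem_Mlt (ord m) LL (gg v d0) (l := Idx.g3 ⟨(j, k), hjk⟩) (SuppP.C (by cmpdeg) _))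

/-- remainder coefficient of `+xi` in the S-pair `P8` -/
def r8a (v : UGen m → R) (d0 : R) (i : Fin m) : R :=
  -v UGen.a * v (UGen.cbi i) * v (UGen.ci i) - v (UGen.cbi i) * v (UGen.ci i) * v (UGen.ci i) - v (UGen.cbi i) * v (UGen.cbi i) * v (UGen.ci i) + v UGen.a * v UGen.c + v (UGen.cbi i) * v UGen.c + v UGen.cb * v (UGen.ci i) + d0

/-- remainder coefficient of `1` in the S-pair `P8` -/
def r8b (v : UGen m → R) (d0 : R) (i : Fin m) : R :=
  v UGen.a * v (UGen.cbi i) * v (UGen.cbi i) * v (UGen.ci i) + v (UGen.cbi i) * v (UGen.cbi i) * v (UGen.ci i) * v (UGen.ci i) + v (UGen.cbi i) * v (UGen.cbi i) * v (UGen.cbi i) * v (UGen.ci i) - v UGen.a * v (UGen.cbi i) * v UGen.c - v (UGen.cbi i) * v UGen.cb * v (UGen.ci i) - v (UGen.cbi i) * v (UGen.cbi i) * v UGen.c - v (UGen.cbi i) * d0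

theorem P8_id (v : UGen m → R) (d0 : R) (i : Fin m) :
    X CVar.x2 * X CVar.x3 * g2 v i - X (CVar.xi i) * g4 v d0 =
      (C (1) * (X CVar.x2 * X CVar.x3) + C (-v (UGen.cbi i)) * (X CVar.x3) + C (-v UGen.c + v UGen.cb)) * g1 v i
      + (C (-v (UGen.cbi i) * v (UGen.ci i) + v UGen.c)) * g2 v i
      + (C (-v (UGen.cbi i))) * g4 v d0
      + C (r8a v d0 i) * (X (CVar.xi i))
      + C (r8b v d0 i) := by
  simp only [g1, g2, g3, g4, r8a, r8b, map_add, map_sub, map_mul, map_neg, map_one]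
  ring

theorem r8a_zero {v : UGen m → R} {d0 : R} (hU : UHyp v d0) (i : Fin m) : r8a v d0 i = 0 := by
  unfold r8a
  linear_combination (exp := 1) (-1) * hU.dd i

theorem r8b_zero {v : UGen m → R} {d0 : R} (hU : UHyp v d0) (i : Fin m) : r8b v d0 i = 0 := by
  unfold r8b
  linear_combination (exp := 1) (v (UGen.cbi i)) * hU.dd i

theorem P8_mem {v : UGen m → R} {d0 : R} (hU : UHyp v d0) (i : Fin m) :
    X CVar.x2 * X CVar.x3 * g2 v i - X (CVar.xi i) * g4 v d0 ∈ Mlt (ord m) LL (gg v d0) ((single CVar.x2 1 + single CVar.x3 1) + (single CVar.x3 1 + single (CVar.xi i) 1)) := by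
  rw [P8_id v d0 i, r8a_zero hU i, r8b_zero hU i]
  simp only [map_zero, zero_mul, add_zero]
  exact Submodule.add_mem _ (Submodule.add_mem _ ((mul_mem_Mlt (ord m) LL (gg v d0) (l := Idx.g1 i) (((SuppP.C_mul (SuppP.XX (c7 i)) _).add (SuppP.C_mul (SuppP.X (by cmpdeg)) _)).add (SuppP.C (by cmpdeg) _))))
    (mul_mem_Mlt (ord m) LL (gg v d0) (l := Idx.g2 i) (SuppP.C (by cmpdeg) _)))
    (mul_mem_Mlt (ord m) LL (gg v d0) (l := Idx.g4) (SuppP.C (by cmpdeg) _))

end Groth.Agent.Lib.Helper6.Groeb.Curve
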