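import Mathlib
import Groth.Prelude.Def_W4c5m1nsnscurvesC
import Groth.Agent.Lib.Helper6.Groeb.CurveGB2

/-!
# Gröbner data for the curve algebra (helper6), part 3: all S-pairs are fine; the ideal.
-/

set_option autoImplicit false
universe u

namespace Groth.Agent.Lib.Helper6.Groeb.Curve

open MvPolynomial W4c5m1nsnscurves Groth.Agent.Lib.Helper6.Groeb
open Finsupp (single)

variable {m : ℕ} {R : Type u} [CommRing R] {v : UGen m → R} {d0 : R}

theorem xi_ne {i j : Fin m} (h : i ≠ j) : (CVar.xi i : CVar m) ≠ CVar.xi j :=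
  fun e => h (CVar.xi.inj e)

theorem x2_ne_x3 : (CVar.x2 : CVar m) ≠ CVar.x3 := by intro h; cases h
theorem x3_ne_x2 : (CVar.x3 : CVar m) ≠ CVar.x2 := by intro h; cases h
theorem x2_ne_xi (i : Fin m) : (CVar.x2 : CVar m) ≠ CVar.xi i := by intro h; cases h
theorem x3_ne_xi (i : Fin m) : (CVar.x3 : CVar m) ≠ CVar.xi i := by intro h; cases h
theorem xi_ne_x2 (i : Fin m) : (CVar.xi i : CVar m) ≠ CVar.x2 := by intro h; cases h
theorem xi_ne_x3 (i : Fin m) : (CVar.xi i : CVar m) ≠ CVar.x3 := by intro h; cases h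

theorem pair12_same (hU : UHyp v d0) (i : Fin m) :
    PairOK (ord m) LL (gg v d0) (Idx.g1 i) (Idx.g2 i) := by
  refine PairOK.mk' (a := single CVar.x2 1 + single (CVar.xi i) 1)
    (b := single CVar.x3 1 + single (CVar.xi i) 1) (p := g1 v i) (q := g2 v i) rfl rfl rfl rfl
    (single CVar.x3 1) (single CVar.x2 1) (single_inf_single x3_ne_x2) (by abel) ?_
  exact P1_mem hU i

theorem pair12 (hU : UHyp v d0) (i j : Fin m) :
    PairOK (ord m) LL (gg v d0) (Idx.g1 i) (Idx.g2 j) := by
  by_cases h : i = j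
  · subst h; exact pair12_same hU i
  · refine PairOK.coprime (monic_gg v d0) ?_
    exact pair_inf_pair x2_ne_x3 (x2_ne_xi j) (xi_ne_x3 i) (xi_ne h)

theorem pair11 (hU : UHyp v d0) (i j : Fin m) :
    PairOK (ord m) LL (gg v d0) (Idx.g1 i) (Idx.g1 j) := by
  by_cases h : i = j
  · subst h; exact PairOK.of_eq rfl rfl
  · refine PairOK.mk' (a := single CVar.x2 1 + single (CVar.xi i) 1)
      (b := single CVar.x2 1 + single (CVar.xi j) 1) (p := g1 v i) (q := g1 v j) rfl rfl rfl rfl
      (single (CVar.xi j) 1) (single (CVar.xi i) 1) (single_inf_single (xi_ne (Ne.symm h)))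
      (by abel) ?_
    show X (CVar.xi j) * g1 v i - X (CVar.xi i) * g1 v j ∈ _
    have e : X (CVar.xi j) * g1 v i - X (CVar.xi i) * g1 v j =
        (X (CVar.xi j) * g1 v i - X CVar.x2 * g3 v i j h) -
        (X (CVar.xi i) * g1 v j - X CVar.x2 * g3 v j i (Ne.symm h)) := by
      rw [← g3_symm v i j h]; ring
    rw [e]
    refine Submodule.sub_mem _ (P3_mem hU i j h) ?_
    have h2 := P3_mem hU j i (Ne.symm h)
    have e2 : single (CVar.xi i) 1 + (single CVar.x2 1 + single (CVar.xi j) 1) =
        single (CVar.xi j) 1 + (single CVar.x2 1 + single (CVar.xi i) 1) := by abel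
    rw [e2] at h2
    exact h2

theorem pair22 (hU : UHyp v d0) (i j : Fin m) :
    PairOK (ord m) LL (gg v d0) (Idx.g2 i) (Idx.g2 j) := by
  by_cases h : i = j
  · subst h; exact PairOK.of_eq rfl rfl
  · refine PairOK.mk' (a := single CVar.x3 1 + single (CVar.xi i) 1)
      (b := single CVar.x3 1 + single (CVar.xi j) 1) (p := g2 v i) (q := g2 v j) rfl rfl rfl rfl
      (single (CVar.xi j) 1) (single (CVar.xi i) 1) (single_inf_single (xi_ne (Ne.symm h)))
      (by abel) ?_
    show X (CVar.xi j) * g2 v i - X (CVar.xi i) * g2 v j ∈ _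
    have e : X (CVar.xi j) * g2 v i - X (CVar.xi i) * g2 v j =
        (X (CVar.xi j) * g2 v i - X CVar.x3 * g3 v i j h) -
        (X (CVar.xi i) * g2 v j - X CVar.x3 * g3 v j i (Ne.symm h)) := by
      rw [← g3_symm v i j h]; ring
    rw [e]
    refine Submodule.sub_mem _ (P4_mem hU i j h) ?_
    have h2 := P4_mem hU j i (Ne.symm h)
    have e2 : single (CVar.xi i) 1 + (single CVar.x3 1 + single (CVar.xi j) 1) =
        single (CVar.xi j) 1 + (single CVar.x3 1 + single (CVar.xi i) 1) := by abel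
    rw [e2] at h2
    exact h2

theorem pair13 (hU : UHyp v d0) (i : Fin m) (q : DPair m) :
    PairOK (ord m) LL (gg v d0) (Idx.g1 i) (Idx.g3 q) := by
  obtain ⟨⟨s, r⟩, hq⟩ := q
  change s ≠ r at hq
  by_cases h1 : i = s
  · subst h1
    refine PairOK.mk' (a := single CVar.x2 1 + single (CVar.xi i) 1)
      (b := single (CVar.xi i) 1 + single (CVar.xi r) 1) (p := g1 v i) (q := g3 v i r hq)
      rfl rfl rfl rfl
      (single (CVar.xi r) 1) (single CVar.x2 1) (single_inf_single (xi_ne_x2 r)) (by abel) ?_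
    exact P3_mem hU i r hq
  · by_cases h2 : i = r
    · subst h2
      refine PairOK.mk' (a := single CVar.x2 1 + single (CVar.xi i) 1)
        (b := single (CVar.xi s) 1 + single (CVar.xi i) 1) (p := g1 v i) (q := g3 v s i hq)
        rfl rfl rfl rfl
        (single (CVar.xi s) 1) (single CVar.x2 1) (single_inf_single (xi_ne_x2 s)) (by abel) ?_
      rw [g3_symm v s i hq]
      exact P3_mem hU i s (Ne.symm hq)
    · refine PairOK.coprime (monic_gg v d0) ?_
      exact pair_inf_pair (x2_ne_xi s) (x2_ne_xi r) (xi_ne h1) (xi_ne h2)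

theorem pair23 (hU : UHyp v d0) (i : Fin m) (q : DPair m) :
    PairOK (ord m) LL (gg v d0) (Idx.g2 i) (Idx.g3 q) := by
  obtain ⟨⟨s, r⟩, hq⟩ := q
  change s ≠ r at hq
  by_cases h1 : i = s
  · subst h1
    refine PairOK.mk' (a := single CVar.x3 1 + single (CVar.xi i) 1)
      (b := single (CVar.xi i) 1 + single (CVar.xi r) 1) (p := g2 v i) (q := g3 v i r hq)
      rfl rfl rfl rfl
      (single (CVar.xi r) 1) (single CVar.x3 1) (single_inf_single (xi_ne_x3 r)) (by abel) ?_
    exact P4_mem hU i r hq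
  · by_cases h2 : i = r
    · subst h2
      refine PairOK.mk' (a := single CVar.x3 1 + single (CVar.xi i) 1)
        (b := single (CVar.xi s) 1 + single (CVar.xi i) 1) (p := g2 v i) (q := g3 v s i hq)
        rfl rfl rfl rfl
        (single (CVar.xi s) 1) (single CVar.x3 1) (single_inf_single (xi_ne_x3 s)) (by abel) ?_
      rw [g3_symm v s i hq]
      exact P4_mem hU i s (Ne.symm hq)
    · refine PairOK.coprime (monic_gg v d0) ?_
      exact pair_inf_pair (x3_ne_xi s) (x3_ne_xi r) (xi_ne h1) (xi_ne h2)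

theorem pair24 (hU : UHyp v d0) (i : Fin m) :
    PairOK (ord m) LL (gg v d0) (Idx.g2 i) Idx.g4 := by
  refine PairOK.mk' (a := single CVar.x3 1 + single (CVar.xi i) 1)
    (b := single CVar.x2 1 + single CVar.x3 1 + single CVar.x3 1) (p := g2 v i) (q := g4 v d0)
    rfl rfl rfl rfl
    (single CVar.x2 1 + single CVar.x3 1) (single (CVar.xi i) 1)
    (pair_inf_single (x2_ne_xi i) (x3_ne_xi i)) (by abel) ?_
  rw [← XX_eq]
  exact P8_mem hU i

theorem pair14 (hU : UHyp v d0) (i : Fin m) :
    PairOK (ord m) LL (gg v d0) (Idx.g1 i) Idx.g4 := by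
  refine PairOK.mk' (a := single CVar.x2 1 + single (CVar.xi i) 1)
    (b := single CVar.x2 1 + single CVar.x3 1 + single CVar.x3 1) (p := g1 v i) (q := g4 v d0)
    rfl rfl rfl rfl
    (single CVar.x3 1 + single CVar.x3 1) (single (CVar.xi i) 1)
    (pair_inf_single (x3_ne_xi i) (x3_ne_xi i)) (by abel) ?_
  rw [← XX_eq]
  show X CVar.x3 * X CVar.x3 * g1 v i - X (CVar.xi i) * g4 v d0 ∈ _
  have e : X CVar.x3 * X CVar.x3 * g1 v i - X (CVar.xi i) * g4 v d0 =
      X CVar.x3 * (X CVar.x3 * g1 v i - X CVar.x2 * g2 v i) +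
        (X CVar.x2 * X CVar.x3 * g2 v i - X (CVar.xi i) * g4 v d0) := by ring
  rw [e]
  refine Submodule.add_mem _ ?_ ?_
  · have h1 := monomial_mul_mem_Mlt (ord m) LL (gg v d0) (single CVar.x3 1) (P1_mem hU i)
    have e1 : single CVar.x3 1 + (single CVar.x3 1 + (single CVar.x2 1 + single (CVar.xi i) 1)) =
        single CVar.x3 1 + single CVar.x3 1 + (single CVar.x2 1 + single (CVar.xi i) 1) := by
      abel
    rw [e1] at h1
    exact h1
  · have h2 := P8_mem hU i
    have e2 : (single CVar.x2 1 + single CVar.x3 1) + (single CVar.x3 1 + single (CVar.xi i) 1) =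
        single CVar.x3 1 + single CVar.x3 1 + (single CVar.x2 1 + single (CVar.xi i) 1) := by
      abel
    rw [e2] at h2
    exact h2

theorem pair34 (q : DPair m) :
    PairOK (ord m) LL (gg v d0) (Idx.g3 q) Idx.g4 := by
  obtain ⟨⟨s, r⟩, hq⟩ := q
  refine PairOK.coprime (monic_gg v d0) ?_
  exact pair_inf_triple (xi_ne_x2 s) (xi_ne_x3 s) (xi_ne_x3 s) (xi_ne_x2 r) (xi_ne_x3 r)
    (xi_ne_x3 r)

theorem pair33 (hU : UHyp v d0) (q q' : DPair m) :
    PairOK (ord m) LL (gg v d0) (Idx.g3 q) (Idx.g3 q') := by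
  obtain ⟨⟨i, j⟩, hij⟩ := q
  obtain ⟨⟨k, l⟩, hkl⟩ := q'
  change i ≠ j at hij
  change k ≠ l at hkl
  by_cases hik : i = k
  · subst hik
    by_cases hjl : j = l
    · subst hjl; exact PairOK.of_eq rfl rfl
    · refine PairOK.mk' (a := single (CVar.xi i) 1 + single (CVar.xi j) 1)
        (b := single (CVar.xi i) 1 + single (CVar.xi l) 1) (p := g3 v i j hij) (q := g3 v i l hkl)
        rfl rfl rfl rfl
        (single (CVar.xi l) 1) (single (CVar.xi j) 1) (single_inf_single (xi_ne (Ne.symm hjl)))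
        (by abel) ?_
      exact P6_mem hU i j l hij hkl hjl
  · by_cases hil : i = l
    · subst hil
      by_cases hjk : j = k
      · subst hjk
        refine PairOK.of_eq ?_ ?_
        · exact g3_symm v i j hij
        · exact add_comm _ _
      · refine PairOK.mk' (a := single (CVar.xi i) 1 + single (CVar.xi j) 1)
          (b := single (CVar.xi k) 1 + single (CVar.xi i) 1) (p := g3 v i j hij)
          (q := g3 v k i hkl) rfl rfl rfl rfl
          (single (CVar.xi k) 1) (single (CVar.xi j) 1) (single_inf_single (xi_ne (Ne.symm hjk)))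
          (by abel) ?_
        rw [g3_symm v k i hkl]
        exact P6_mem hU i j k hij (Ne.symm hkl) hjk
    · by_cases hjk : j = k
      · subst hjk
        refine PairOK.mk' (a := single (CVar.xi i) 1 + single (CVar.xi j) 1)
          (b := single (CVar.xi j) 1 + single (CVar.xi l) 1) (p := g3 v i j hij)
          (q := g3 v j l hkl) rfl rfl rfl rfl
          (single (CVar.xi l) 1) (single (CVar.xi i) 1) (single_inf_single (xi_ne (Ne.symm hil)))
          (by abel) ?_
        rw [g3_symm v i j hij]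
        have h2 := P6_mem hU j i l (Ne.symm hij) hkl hil
        have e2 : single (CVar.xi l) 1 + (single (CVar.xi j) 1 + single (CVar.xi i) 1) =
            single (CVar.xi l) 1 + (single (CVar.xi i) 1 + single (CVar.xi j) 1) := by abel
        rw [e2] at h2
        exact h2
      · by_cases hjl : j = l
        · subst hjl
          refine PairOK.mk' (a := single (CVar.xi i) 1 + single (CVar.xi j) 1)
            (b := single (CVar.xi k) 1 + single (CVar.xi j) 1) (p := g3 v i j hij)
            (q := g3 v k j hkl) rfl rfl rfl rfl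
            (single (CVar.xi k) 1) (single (CVar.xi i) 1) (single_inf_single (xi_ne (Ne.symm hik)))
            (by abel) ?_
          rw [g3_symm v i j hij, g3_symm v k j hkl]
          have h2 := P6_mem hU j i k (Ne.symm hij) (Ne.symm hkl) hik
          have e2 : single (CVar.xi k) 1 + (single (CVar.xi j) 1 + single (CVar.xi i) 1) =
              single (CVar.xi k) 1 + (single (CVar.xi i) 1 + single (CVar.xi j) 1) := by abel
          rw [e2] at h2
          exact h2
        · refine PairOK.coprime (monic_gg v d0) ?_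
          exact pair_inf_pair (xi_ne hik) (xi_ne hil) (xi_ne hjk) (xi_ne hjl)

theorem all_pairs (hU : UHyp v d0) : ∀ j k : Idx m, PairOK (ord m) LL (gg v d0) j k := by
  intro j k
  cases j with
  | g1 i =>
    cases k with
    | g1 j => exact pair11 hU i j
    | g2 j => exact pair12 hU i j
    | g3 q => exact pair13 hU i q
    | g4 => exact pair14 hU i
  | g2 i =>
    cases k with
    | g1 j => exact (pair12 hU j i).symm
    | g2 j => exact pair22 hU i j
    | g3 q => exact pair23 hU i q
    | g4 => exact pair24 hU i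
  | g3 q =>
    cases k with
    | g1 j => exact (pair13 hU j q).symm
    | g2 j => exact (pair23 hU j q).symm
    | g3 q' => exact pair33 hU q q'
    | g4 => exact pair34 q
  | g4 =>
    cases k with
    | g1 j => exact (pair14 hU j).symm
    | g2 j => exact (pair24 hU j).symm
    | g3 q => exact (pair34 q).symm
    | g4 => exact PairOK.of_eq rfl rfl

/-! ### the ideal -/

theorem g1_mem (v : UGen m → R) (i : Fin m) : g1 v i ∈ Ideal.span (CRel R m v) :=
  Ideal.subset_span (Or.inl (Or.inl ⟨i, rfl⟩))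

theorem g2_mem (v : UGen m → R) (i : Fin m) : g2 v i ∈ Ideal.span (CRel R m v) :=
  Ideal.subset_span (Or.inl (Or.inr ⟨i, rfl⟩))

theorem g3_mem (v : UGen m → R) (i j : Fin m) (h : i ≠ j) :
    g3 v i j h ∈ Ideal.span (CRel R m v) :=
  Ideal.subset_span (Or.inr ⟨⟨(i, j), h⟩, rfl⟩)

theorem g4_mem (i0 : Fin m) (h : r1a v d0 i0 = 0) : g4 v d0 ∈ Ideal.span (CRel R m v) := by
  have hid := P1_id v d0 i0
  rw [h, map_zero, add_zero] at hid
  have e : g4 v d0 = (C (v UGen.a + v (UGen.cbi i0) + v (UGen.ci i0)) - X CVar.x3) * g1 v i0 +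
      (C (-v (UGen.ci i0)) + X CVar.x2) * g2 v i0 := by
    simp only [map_neg, map_one] at hid ⊢
    linear_combination (exp := 1) hid
  rw [e]
  exact Ideal.add_mem _ (Ideal.mul_mem_left _ _ (g1_mem v i0)) (Ideal.mul_mem_left _ _ (g2_mem v i0))

theorem span_gg_eq (i0 : Fin m) (h : r1a v d0 i0 = 0) :
    Ideal.span (Set.range (gg v d0)) = Ideal.span (CRel R m v) := by
  apply le_antisymm
  · rw [Ideal.span_le]
    rintro _ ⟨l, rfl⟩
    cases l with
    | g1 i => exact g1_mem v i
    | g2 i => exact g2_mem v i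
    | g3 q => exact g3_mem v q.1.1 q.1.2 q.2
    | g4 => exact g4_mem i0 h
  · rw [Ideal.span_le]
    rintro p ((⟨i, rfl⟩ | ⟨i, rfl⟩) | ⟨q, rfl⟩)
    · exact Ideal.subset_span ⟨Idx.g1 i, rfl⟩
    · exact Ideal.subset_span ⟨Idx.g2 i, rfl⟩
    · exact Ideal.subset_span ⟨Idx.g3 q, rfl⟩

end Groth.Agent.Lib.Helper6.Groeb.Curve
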