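import Mathlib
import Groth.Prelude.Def_W4c5m1nsnscurvesC
import Groth.Agent.Lib.Helper6.Groeb.CurveGB3

/-!
# The monomial basis of the curve algebra `CurveAlg R m v` (helper6), part 4.
-/

set_option autoImplicit false
set_option linter.unusedVariables false
set_option linter.unusedSimpArgs false
universe u

namespace Groth.Agent.Lib.Helper6.Groeb.Curve

open MvPolynomial W4c5m1nsnscurves Groth.Agent.Lib.Helper6.Groeb
open Finsupp (single)

variable {m : ℕ} {R : Type u} [CommRing R]

/-- index type of the monomial basis -/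
abbrev BIdx (m : ℕ) : Type := Option (ℕ ⊕ (CVar m × ℕ))

/-- exponent of the basis monomial -/
noncomputable def expo : BIdx m → (CVar m →₀ ℕ)
  | none => 0
  | some (Sum.inl k) => single CVar.x2 (k + 1) + single CVar.x3 1
  | some (Sum.inr (y, k)) => single y (k + 1)

theorem cmon_eq (v : UGen m → R) (idx : BIdx m) :
    cmon R m v idx = Ideal.Quotient.mk (Ideal.span (CRel R m v)) (monomial (expo idx) 1) := by
  rcases idx with _ | k | ⟨y, k⟩
  · show (1 : CurveAlg R m v) = Ideal.Quotient.mk _ (monomial 0 1)
    rw [← C_apply, C_1, map_one]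
  · show Ideal.Quotient.mk _ (X CVar.x2 ^ (k + 1) * X CVar.x3) =
      Ideal.Quotient.mk _ (monomial (single CVar.x2 (k + 1) + single CVar.x3 1) 1)
    congr 1
    rw [X_pow_eq_monomial, X, monomial_mul, mul_one]
  · show Ideal.Quotient.mk _ (X y ^ (k + 1)) = Ideal.Quotient.mk _ (monomial (single y (k + 1)) 1)
    rw [X_pow_eq_monomial]

theorem expo_injective : Function.Injective (expo (m := m)) := by
  intro a b h
  rcases a with _ | k | ⟨y, k⟩ <;> rcases b with _ | k' | ⟨y', k'⟩
  · rfl
  · exfalso
    have := DFunLike.congr_fun h CVar.x3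
    simp [expo, Finsupp.single_apply] at this
  · exfalso
    have := DFunLike.congr_fun h y'
    simp [expo, Finsupp.single_apply] at this
  · exfalso
    have := DFunLike.congr_fun h CVar.x3
    simp [expo, Finsupp.single_apply] at this
  · have := DFunLike.congr_fun h CVar.x2
    simp [expo, Finsupp.single_apply] at this
    rw [this]
  · exfalso
    rcases y' with _ | _ | t
    · have := DFunLike.congr_fun h CVar.x3
      simp [expo, Finsupp.single_apply] at this
    · have := DFunLike.congr_fun h CVar.x2
      simp [expo, Finsupp.single_apply] at this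
    · have := DFunLike.congr_fun h CVar.x2
      simp [expo, Finsupp.single_apply] at this
  · exfalso
    have := DFunLike.congr_fun h y
    simp [expo, Finsupp.single_apply] at this
  · exfalso
    rcases y with _ | _ | t
    · have := DFunLike.congr_fun h CVar.x3
      simp [expo, Finsupp.single_apply] at this
    · have := DFunLike.congr_fun h CVar.x2
      simp [expo, Finsupp.single_apply] at this
    · have := DFunLike.congr_fun h CVar.x2
      simp [expo, Finsupp.single_apply] at this
  · have h1 : single y (k + 1) = single y' (k' + 1) := h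
    rcases (Finsupp.single_eq_single_iff _ _ _ _).mp h1 with ⟨hy, hk⟩ | ⟨hk, _⟩
    · subst hy
      have hkk : k = k' := by omega
      subst hkk
      rfl
    · omega

theorem expo_std (idx : BIdx m) (l : Idx m) : ¬ LL l ≤ expo idx := by
  intro hle
  rcases idx with _ | k | ⟨y, k⟩
  · cases l with
    | g1 i =>
      have := Finsupp.le_def.mp hle CVar.x2
      simp [LL, expo, Finsupp.single_apply] at this
    | g2 i =>
      have := Finsupp.le_def.mp hle CVar.x3
      simp [LL, expo, Finsupp.single_apply] at this
    | g3 q =>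
      have := Finsupp.le_def.mp hle (CVar.xi q.1.1)
      simp [LL, expo, Finsupp.single_apply] at this
    | g4 =>
      have := Finsupp.le_def.mp hle CVar.x2
      simp [LL, expo, Finsupp.single_apply] at this
  · cases l with
    | g1 i =>
      have := Finsupp.le_def.mp hle (CVar.xi i)
      simp [LL, expo, Finsupp.single_apply] at this
    | g2 i =>
      have := Finsupp.le_def.mp hle (CVar.xi i)
      simp [LL, expo, Finsupp.single_apply] at this
    | g3 q =>
      have := Finsupp.le_def.mp hle (CVar.xi q.1.1)
      simp [LL, expo, Finsupp.single_apply] at this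
    | g4 =>
      have := Finsupp.le_def.mp hle CVar.x3
      simp [LL, expo, Finsupp.single_apply] at this
  · cases l with
    | g1 i =>
      rcases y with _ | _ | t
      · have := Finsupp.le_def.mp hle (CVar.xi i)
        simp [LL, expo, Finsupp.single_apply] at this
      · have := Finsupp.le_def.mp hle CVar.x2
        simp [LL, expo, Finsupp.single_apply] at this
      · have := Finsupp.le_def.mp hle CVar.x2
        simp [LL, expo, Finsupp.single_apply] at this
    | g2 i =>
      rcases y with _ | _ | t
      · have := Finsupp.le_def.mp hle CVar.x3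
        simp [LL, expo, Finsupp.single_apply] at this
      · have := Finsupp.le_def.mp hle (CVar.xi i)
        simp [LL, expo, Finsupp.single_apply] at this
      · have := Finsupp.le_def.mp hle CVar.x3
        simp [LL, expo, Finsupp.single_apply] at this
    | g3 q =>
      obtain ⟨⟨s, r⟩, hq⟩ := q
      change s ≠ r at hq
      rcases y with _ | _ | t
      · have := Finsupp.le_def.mp hle (CVar.xi s)
        simp [LL, expo, Finsupp.single_apply] at this
      · have := Finsupp.le_def.mp hle (CVar.xi s)
        simp [LL, expo, Finsupp.single_apply] at this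
      · by_cases hts : t = s
        · subst hts
          have := Finsupp.le_def.mp hle (CVar.xi r)
          simp [LL, expo, Finsupp.single_apply, hq, hq.symm] at this
        · have := Finsupp.le_def.mp hle (CVar.xi s)
          simp [LL, expo, Finsupp.single_apply, hts, Ne.symm hts] at this
    | g4 =>
      rcases y with _ | _ | t
      · have := Finsupp.le_def.mp hle CVar.x3
        simp [LL, expo, Finsupp.single_apply] at this
      · have := Finsupp.le_def.mp hle CVar.x2
        simp [LL, expo, Finsupp.single_apply] at this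
      · have := Finsupp.le_def.mp hle CVar.x2
        simp [LL, expo, Finsupp.single_apply] at this

theorem two_le {σ : Type*} {a c : σ} (hac : a ≠ c) {b : σ →₀ ℕ} (h1 : 1 ≤ b a) (h2 : 1 ≤ b c) :
    single a 1 + single c 1 ≤ b := by
  refine Finsupp.le_def.mpr fun s => ?_
  rw [Finsupp.add_apply]
  by_cases hsa : s = a
  · rw [hsa, Finsupp.single_eq_same, Finsupp.single_eq_of_ne hac]; omega
  · by_cases hsc : s = c
    · rw [hsc, Finsupp.single_eq_of_ne hac.symm, Finsupp.single_eq_same]; omega
    · rw [Finsupp.single_eq_of_ne hsa, Finsupp.single_eq_of_ne hsc]; omega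

theorem three_le {σ : Type*} {a c : σ} (hac : a ≠ c) {b : σ →₀ ℕ} (h1 : 1 ≤ b a) (h2 : 2 ≤ b c) :
    single a 1 + single c 1 + single c 1 ≤ b := by
  refine Finsupp.le_def.mpr fun s => ?_
  rw [Finsupp.add_apply, Finsupp.add_apply]
  by_cases hsa : s = a
  · rw [hsa, Finsupp.single_eq_same, Finsupp.single_eq_of_ne hac]; omega
  · by_cases hsc : s = c
    · rw [hsc, Finsupp.single_eq_of_ne hac.symm, Finsupp.single_eq_same]; omega
    · rw [Finsupp.single_eq_of_ne hsa, Finsupp.single_eq_of_ne hsc]; omega

theorem std_exists (b : CVar m →₀ ℕ) (hb : ∀ l : Idx m, ¬ LL l ≤ b) : ∃ idx, expo idx = b := by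
  have F1 : ∀ i, ¬ (1 ≤ b CVar.x2 ∧ 1 ≤ b (CVar.xi i)) :=
    fun i h => hb (Idx.g1 i) (two_le (x2_ne_xi i) h.1 h.2)
  have F2 : ∀ i, ¬ (1 ≤ b CVar.x3 ∧ 1 ≤ b (CVar.xi i)) :=
    fun i h => hb (Idx.g2 i) (two_le (x3_ne_xi i) h.1 h.2)
  have F3 : ∀ i j, i ≠ j → ¬ (1 ≤ b (CVar.xi i) ∧ 1 ≤ b (CVar.xi j)) :=
    fun i j hij h => hb (Idx.g3 ⟨(i, j), hij⟩) (two_le (xi_ne hij) h.1 h.2)
  have F4 : ¬ (1 ≤ b CVar.x2 ∧ 2 ≤ b CVar.x3) :=
    fun h => hb Idx.g4 (three_le x2_ne_x3 h.1 h.2)
  by_cases hA : ∃ i, 1 ≤ b (CVar.xi i)
  · obtain ⟨i, hi⟩ := hA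
    refine ⟨some (Sum.inr (CVar.xi i, b (CVar.xi i) - 1)), ?_⟩
    ext s
    show (single (CVar.xi i) (b (CVar.xi i) - 1 + 1)) s = b s
    rcases s with _ | _ | t
    · have := F1 i
      rw [Finsupp.single_eq_of_ne (x2_ne_xi i)]; omega
    · have := F2 i
      rw [Finsupp.single_eq_of_ne (x3_ne_xi i)]; omega
    · by_cases hti : t = i
      · rw [hti, Finsupp.single_eq_same]; omega
      · have := F3 i t (Ne.symm hti)
        rw [Finsupp.single_eq_of_ne (xi_ne hti)]; omega
  · have hA' : ∀ i, b (CVar.xi i) = 0 := by
      intro i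
      by_contra h
      exact hA ⟨i, by omega⟩
    by_cases h2 : b CVar.x2 = 0
    · by_cases h3 : b CVar.x3 = 0
      · refine ⟨none, ?_⟩
        ext s
        show (0 : CVar m →₀ ℕ) s = b s
        rcases s with _ | _ | t
        · rw [h2]; rfl
        · rw [h3]; rfl
        · rw [hA' t]; rfl
      · refine ⟨some (Sum.inr (CVar.x3, b CVar.x3 - 1)), ?_⟩
        ext s
        show (single CVar.x3 (b CVar.x3 - 1 + 1)) s = b s
        rcases s with _ | _ | t
        · rw [Finsupp.single_eq_of_ne x2_ne_x3, h2]
        · rw [Finsupp.single_eq_same]; omega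
        · rw [Finsupp.single_eq_of_ne (xi_ne_x3 t), hA' t]
    · by_cases h3 : b CVar.x3 = 0
      · refine ⟨some (Sum.inr (CVar.x2, b CVar.x2 - 1)), ?_⟩
        ext s
        show (single CVar.x2 (b CVar.x2 - 1 + 1)) s = b s
        rcases s with _ | _ | t
        · rw [Finsupp.single_eq_same]; omega
        · rw [Finsupp.single_eq_of_ne x3_ne_x2, h3]
        · rw [Finsupp.single_eq_of_ne (xi_ne_x2 t), hA' t]
      · refine ⟨some (Sum.inl (b CVar.x2 - 1)), ?_⟩
        ext s
        show ((single CVar.x2 (b CVar.x2 - 1 + 1) + single CVar.x3 1 : CVar m →₀ ℕ)) s = b s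
        rw [Finsupp.add_apply]
        rcases s with _ | _ | t
        · rw [Finsupp.single_eq_same, Finsupp.single_eq_of_ne x2_ne_x3]; omega
        · rw [Finsupp.single_eq_of_ne x3_ne_x2, Finsupp.single_eq_same]; omega
        · rw [Finsupp.single_eq_of_ne (xi_ne_x2 t), Finsupp.single_eq_of_ne (xi_ne_x3 t), hA' t]
          rfl

/-- **The monomials `cmon` form a basis** when `v` satisfies the relations of `U_n`. -/
theorem basis_of_UHyp (i0 : Fin m) {v : UGen m → R} {d0 : R} (hU : UHyp v d0) :
    LinearIndependent R (cmon R m v) ∧ Submodule.span R (Set.range (cmon R m v)) = ⊤ := by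
  have hspan := span_gg_eq (v := v) (d0 := d0) i0 (r1a_zero hU i0)
  constructor
  · have hmono : LinearIndependent R
        (fun idx : BIdx m => (monomial (expo idx) (1 : R) : MvPolynomial (CVar m) R)) := by
      have := (basisMonomials (CVar m) R).linearIndependent.comp expo expo_injective
      rw [coe_basisMonomials] at this
      exact this
    have hmap := hmono.map
      (f := (Ideal.Quotient.mkₐ R (Ideal.span (CRel R m v))).toLinearMap) ?_
    · have hfun : cmon R m v = (⇑(Ideal.Quotient.mkₐ R (Ideal.span (CRel R m v))).toLinearMap ∘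
          fun idx : BIdx m => (monomial (expo idx) (1 : R) : MvPolynomial (CVar m) R)) := by
        funext idx
        exact cmon_eq v idx
      rw [hfun]
      exact hmap
    · rw [Submodule.disjoint_def]
      intro x hx hker
      have hxI : x ∈ Ideal.span (CRel R m v) := by
        have h0 : (Ideal.Quotient.mk (Ideal.span (CRel R m v))) x = 0 := LinearMap.mem_ker.mp hker
        exact Ideal.Quotient.eq_zero_iff_mem.mp h0
      rw [← hspan] at hxI
      refine std_eq_zero (monic_gg v d0) (all_pairs hU) hxI ?_
      intro b hb k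
      have hsupp : (x.support : Set (CVar m →₀ ℕ)) ⊆ Set.range expo := by
        have hx' : x ∈ restrictSupport R (Set.range (expo (m := m))) := by
          rw [restrictSupport_eq_span, ← Set.range_comp]
          exact hx
        exact (mem_restrictSupport_iff R).mp hx'
      obtain ⟨idx, hidx⟩ := hsupp hb
      rw [← hidx]
      exact expo_std idx k
  · rw [eq_top_iff]
    rintro y -
    obtain ⟨f, rfl⟩ := Ideal.Quotient.mk_surjective y
    obtain ⟨r, hfr, hr⟩ := exists_std_rem (m := ord m) (L := LL) (g := gg v d0) (monic_gg v d0) f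
    rw [hspan] at hfr
    have e : Ideal.Quotient.mk (Ideal.span (CRel R m v)) f = Ideal.Quotient.mk _ r :=
      Ideal.Quotient.eq.mpr hfr
    rw [e, ← support_sum_monomial_coeff r, map_sum]
    refine Submodule.sum_mem _ fun c hc => ?_
    obtain ⟨idx, hidx⟩ := std_exists c (hr c hc)
    have e1 : (monomial c (coeff c r) : MvPolynomial (CVar m) R) =
        coeff c r • monomial (expo idx) 1 := by
      rw [hidx, smul_monomial, smul_eq_mul, mul_one]
    rw [e1]
    have e2 : Ideal.Quotient.mk (Ideal.span (CRel R m v)) (coeff c r • monomial (expo idx) 1) =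
        coeff c r • cmon R m v idx := by
      rw [cmon_eq]
      exact map_smul (Ideal.Quotient.mkₐ R (Ideal.span (CRel R m v))) _ _
    rw [e2]
    exact Submodule.smul_mem _ _ (Submodule.subset_span ⟨idx, rfl⟩)


end Groth.Agent.Lib.Helper6.Groeb.Curve
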