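import Mathlib
import Groth.Prelude.Def_W4c5m1nsnscurvesC
import Groth.Agent.Lib.Helper6.Groeb.CurveGB4

/-!
# The monomial basis of the curve algebra (helper6), part 5: the converse direction
(linear independence of the monomials forces the relations of `U_n`).
-/

set_option autoImplicit false
set_option linter.unusedVariables false
set_option linter.unusedSimpArgs false
universe u

namespace Groth.Agent.Lib.Helper6.Groeb.Curve

open MvPolynomial W4c5m1nsnscurves Groth.Agent.Lib.Helper6.Groeb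
open Finsupp (single)

variable {m : ℕ} {R : Type u} [CommRing R]

theorem P3_rem_mem (v : UGen m → R) (d0 : R) (i j : Fin m) (hij : i ≠ j)
    (hg4 : g4 v d0 ∈ Ideal.span (CRel R m v)) :
    C (r3a v d0 i j hij) * (X CVar.x2 * X CVar.x3) + C (r3b v d0 i j hij) * (X (CVar.xi j)) + C (r3c v d0 i j hij) * (X CVar.x2) + C (r3d v d0 i j hij) ∈ Ideal.span (CRel R m v) := by
  have hid := P3_id v d0 i j hij
  have e : C (r3a v d0 i j hij) * (X CVar.x2 * X CVar.x3) + C (r3b v d0 i j hij) * (X (CVar.xi j)) + C (r3c v d0 i j hij) * (X CVar.x2) + C (r3d v d0 i j hij) =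
      (X (CVar.xi j) * g1 v i - X CVar.x2 * g3 v i j hij) -
      ((C (v (UGen.cij j i hij.symm))) * g1 v i
      + (C (-1) * (X CVar.x3) + C (-v (UGen.cbi i) + v (UGen.cij i j hij))) * g1 v j
      + (C (-v (UGen.ci j))) * g2 v j
      + (C (-v (UGen.ci i))) * g3 v i j hij
      + (C (-1)) * g4 v d0) := by
    rw [hid]; ring
  rw [e]
  refine Ideal.sub_mem _ (Ideal.sub_mem _ (Ideal.mul_mem_left _ _ (g1_mem v i)) (Ideal.mul_mem_left _ _ (g3_mem v i j hij))) ?_
  exact Ideal.add_mem _ (Ideal.add_mem _ (Ideal.add_mem _ (Ideal.add_mem _ ((Ideal.mul_mem_left _ _ (g1_mem v i)))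
      (Ideal.mul_mem_left _ _ (g1_mem v j)))
      (Ideal.mul_mem_left _ _ (g2_mem v j)))
      (Ideal.mul_mem_left _ _ (g3_mem v i j hij)))
      (Ideal.mul_mem_left _ _ (hg4))

theorem P6_rem_mem (v : UGen m → R) (d0 : R) (i j k : Fin m) (hij : i ≠ j) (hik : i ≠ k) (hjk : j ≠ k)
    (hg4 : g4 v d0 ∈ Ideal.span (CRel R m v)) :
    C (r6a v d0 i j k hij hik hjk) * (X CVar.x2 * X CVar.x3) + C (r6b v d0 i j k hij hik hjk) * (X (CVar.xi j)) + C (r6c v d0 i j k hij hik hjk) * (X (CVar.xi k)) + C (r6d v d0 i j k hij hik hjk) ∈ Ideal.span (CRel R m v) := by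
  have hid := P6_id v d0 i j k hij hik hjk
  have e : C (r6a v d0 i j k hij hik hjk) * (X CVar.x2 * X CVar.x3) + C (r6b v d0 i j k hij hik hjk) * (X (CVar.xi j)) + C (r6c v d0 i j k hij hik hjk) * (X (CVar.xi k)) + C (r6d v d0 i j k hij hik hjk) =
      (X (CVar.xi k) * g3 v i j hij - X (CVar.xi j) * g3 v i k hik) -
      ((C (1) * (X CVar.x3)) * g1 v j
      + (C (v (UGen.ci j))) * g2 v j
      + (C (-1) * (X CVar.x3)) * g1 v k
      + (C (-v (UGen.ci k))) * g2 v k
      + (C (v (UGen.cij k i hik.symm))) * g3 v i j hij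
      + (C (-v (UGen.cij j i hij.symm))) * g3 v i k hik
      + (C (-v (UGen.cij i j hij) + v (UGen.cij i k hik))) * g3 v j k hjk) := by
    rw [hid]; ring
  rw [e]
  refine Ideal.sub_mem _ (Ideal.sub_mem _ (Ideal.mul_mem_left _ _ (g3_mem v i j hij)) (Ideal.mul_mem_left _ _ (g3_mem v i k hik))) ?_
  exact Ideal.add_mem _ (Ideal.add_mem _ (Ideal.add_mem _ (Ideal.add_mem _ (Ideal.add_mem _ (Ideal.add_mem _ ((Ideal.mul_mem_left _ _ (g1_mem v j)))
      (Ideal.mul_mem_left _ _ (g2_mem v j)))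
      (Ideal.mul_mem_left _ _ (g1_mem v k)))
      (Ideal.mul_mem_left _ _ (g2_mem v k)))
      (Ideal.mul_mem_left _ _ (g3_mem v i j hij)))
      (Ideal.mul_mem_left _ _ (g3_mem v i k hik)))
      (Ideal.mul_mem_left _ _ (g3_mem v j k hjk))

/-- the constant term `d` of the cubic relation, computed from the index `i` -/
noncomputable def dval (v : UGen m → R) (i : Fin m) : R :=
  v (.ci i) * v (.cbi i) * (v .a + v (.ci i) + v (.cbi i)) - v (.ci i) * v .cb -
    (v .a + v (.cbi i)) * v .c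

theorem r1a_dval (v : UGen m → R) (i0 : Fin m) : r1a v (dval v i0) i0 = 0 := by
  unfold r1a dval; ring

theorem four_zero {ι : Type*} {M : Type*} [AddCommGroup M] [Module R M] {w : ι → M}
    (hli : LinearIndependent R w) {i1 i2 i3 i4 : ι} (h12 : i1 ≠ i2) (h13 : i1 ≠ i3) (h14 : i1 ≠ i4)
    (h23 : i2 ≠ i3) (h24 : i2 ≠ i4) (h34 : i3 ≠ i4) {c1 c2 c3 c4 : R}
    (h : c1 • w i1 + c2 • w i2 + c3 • w i3 + c4 • w i4 = 0) :
    c1 = 0 ∧ c2 = 0 ∧ c3 = 0 ∧ c4 = 0 := by
  classical
  have hf : Finsupp.linearCombination R w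
      (Finsupp.single i1 c1 + Finsupp.single i2 c2 + Finsupp.single i3 c3 + Finsupp.single i4 c4) =
      Finsupp.linearCombination R w 0 := by
    rw [map_add, map_add, map_add, Finsupp.linearCombination_single,
      Finsupp.linearCombination_single, Finsupp.linearCombination_single,
      Finsupp.linearCombination_single, map_zero]
    exact h
  have h0 := hli hf
  refine ⟨?_, ?_, ?_, ?_⟩
  · have := DFunLike.congr_fun h0 i1
    simpa [Finsupp.single_apply, h12, h13, h14, h12.symm, h13.symm, h14.symm] using this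
  · have := DFunLike.congr_fun h0 i2
    simpa [Finsupp.single_apply, h12, h23, h24, h12.symm, h23.symm, h24.symm] using this
  · have := DFunLike.congr_fun h0 i3
    simpa [Finsupp.single_apply, h13, h23, h34, h13.symm, h23.symm, h34.symm] using this
  · have := DFunLike.congr_fun h0 i4
    simpa [Finsupp.single_apply, h14, h24, h34, h14.symm, h24.symm, h34.symm] using this

theorem P3_indep (i0 : Fin m) (v : UGen m → R) (hli : LinearIndependent R (cmon R m v))
    (i j : Fin m) (hij : i ≠ j) :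
    r3a v (dval v i0) i j hij = 0 ∧ r3b v (dval v i0) i j hij = 0 ∧
      r3c v (dval v i0) i j hij = 0 := by
  have hmem := P3_rem_mem v (dval v i0) i j hij (g4_mem i0 (r1a_dval v i0))
  have h0 : Ideal.Quotient.mkₐ R (Ideal.span (CRel R m v))
      (C (r3a v (dval v i0) i j hij) * (X CVar.x2 * X CVar.x3) +
        C (r3b v (dval v i0) i j hij) * (X (CVar.xi j)) +
        C (r3c v (dval v i0) i j hij) * (X CVar.x2) + C (r3d v (dval v i0) i j hij)) = 0 :=
    Ideal.Quotient.eq_zero_iff_mem.mpr hmem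
  have e : (C (r3a v (dval v i0) i j hij) * (X CVar.x2 * X CVar.x3) +
        C (r3b v (dval v i0) i j hij) * (X (CVar.xi j)) +
        C (r3c v (dval v i0) i j hij) * (X CVar.x2) + C (r3d v (dval v i0) i j hij) :
        MvPolynomial (CVar m) R) =
      r3a v (dval v i0) i j hij • (X CVar.x2 ^ (0 + 1) * X CVar.x3) +
        r3b v (dval v i0) i j hij • (X (CVar.xi j) ^ (0 + 1)) +
        r3c v (dval v i0) i j hij • (X CVar.x2 ^ (0 + 1)) + r3d v (dval v i0) i j hij • 1 := by
    simp only [smul_eq_C_mul, zero_add, pow_one, mul_one]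
  rw [e, map_add, map_add, map_add, map_smul, map_smul, map_smul, map_smul, map_one] at h0
  obtain ⟨h1, h2, h3, -⟩ := four_zero hli (i1 := some (Sum.inl 0))
    (i2 := some (Sum.inr (CVar.xi j, 0))) (i3 := some (Sum.inr (CVar.x2, 0))) (i4 := none)
    (by simp) (by simp) (by simp) (by simp) (by simp) (by simp) h0
  exact ⟨h1, h2, h3⟩

theorem P6_indep (i0 : Fin m) (v : UGen m → R) (hli : LinearIndependent R (cmon R m v))
    (i j k : Fin m) (hij : i ≠ j) (hik : i ≠ k) (hjk : j ≠ k) :
    r6c v (dval v i0) i j k hij hik hjk = 0 := by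
  have hmem := P6_rem_mem v (dval v i0) i j k hij hik hjk (g4_mem i0 (r1a_dval v i0))
  have h0 : Ideal.Quotient.mkₐ R (Ideal.span (CRel R m v))
      (C (r6a v (dval v i0) i j k hij hik hjk) * (X CVar.x2 * X CVar.x3) +
        C (r6b v (dval v i0) i j k hij hik hjk) * (X (CVar.xi j)) +
        C (r6c v (dval v i0) i j k hij hik hjk) * (X (CVar.xi k)) +
        C (r6d v (dval v i0) i j k hij hik hjk)) = 0 :=
    Ideal.Quotient.eq_zero_iff_mem.mpr hmem
  have e : (C (r6a v (dval v i0) i j k hij hik hjk) * (X CVar.x2 * X CVar.x3) +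
        C (r6b v (dval v i0) i j k hij hik hjk) * (X (CVar.xi j)) +
        C (r6c v (dval v i0) i j k hij hik hjk) * (X (CVar.xi k)) +
        C (r6d v (dval v i0) i j k hij hik hjk) : MvPolynomial (CVar m) R) =
      r6a v (dval v i0) i j k hij hik hjk • (X CVar.x2 ^ (0 + 1) * X CVar.x3) +
        r6b v (dval v i0) i j k hij hik hjk • (X (CVar.xi j) ^ (0 + 1)) +
        r6c v (dval v i0) i j k hij hik hjk • (X (CVar.xi k) ^ (0 + 1)) +
        r6d v (dval v i0) i j k hij hik hjk • 1 := by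
    simp only [smul_eq_C_mul, zero_add, pow_one, mul_one]
  rw [e, map_add, map_add, map_add, map_smul, map_smul, map_smul, map_smul, map_one] at h0
  obtain ⟨-, -, h3, -⟩ := four_zero hli (i1 := some (Sum.inl 0))
    (i2 := some (Sum.inr (CVar.xi j, 0))) (i3 := some (Sum.inr (CVar.xi k, 0))) (i4 := none)
    (by simp) (by simp) (by simp) (by simp [hjk]) (by simp) (by simp) h0
  exact h3

/-- linear independence of the monomials forces the relations of `U_n`. -/
theorem rels_of_indep (hm : 1 ≤ m) (v : UGen m → R) (hli : LinearIndependent R (cmon R m v)) :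
    ∀ p ∈ URel R m, MvPolynomial.eval v p = 0 := by
  have i0 : Fin m := ⟨0, hm⟩
  intro p hp
  simp only [URel, Set.mem_union, Set.mem_range] at hp
  rcases hp with ((⟨q, rfl⟩ | ⟨q, rfl⟩) | ⟨q, rfl⟩) | ⟨q, rfl⟩
  · obtain ⟨⟨i, j⟩, hij⟩ := q
    change i ≠ j at hij
    obtain ⟨ha, hb, hc⟩ := P3_indep i0 v hli i j hij
    simp only [eval_X, map_add, map_sub, map_mul]
    unfold r3a at ha
    linear_combination (exp := 1) ha
  · obtain ⟨⟨i, j⟩, hij⟩ := q
    change i ≠ j at hij
    obtain ⟨ha, hb, hc⟩ := P3_indep i0 v hli i j hij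
    simp only [eval_X, map_add, map_sub, map_mul]
    unfold r3a at ha
    unfold r3b at hb
    linear_combination (exp := 1) (-1) * hb + v (UGen.ci j) * ha
  · obtain ⟨⟨i, j⟩, hij⟩ := q
    change i ≠ j at hij
    obtain ⟨ha, hb, hc⟩ := P3_indep i0 v hli i j hij
    simp only [eval_X, map_add, map_sub, map_mul]
    unfold r3c at hc
    linear_combination (exp := 1) hc
  · obtain ⟨⟨i, j, k⟩, hij, hjk, hik⟩ := q
    change i ≠ j at hij
    change j ≠ k at hjk
    change i ≠ k at hik
    have h6 := P6_indep i0 v hli i j k hij hik hjk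
    simp only [eval_X, map_add, map_sub, map_mul]
    unfold r6c at h6
    linear_combination (exp := 1) (-1) * h6

/-- the relations of `U_n` give the hypotheses `UHyp`. -/
theorem UHyp_of_rels (i0 : Fin m) (v : UGen m → R)
    (h : ∀ p ∈ URel R m, MvPolynomial.eval v p = 0) : UHyp v (dval v i0) := by
  have hlin : ∀ (i j : Fin m) (hij : i ≠ j), v (.cij i j hij) + v (.cij j i hij.symm) -
      (v .a + v (.ci i) + v (.cbi i) + v (.ci j) + v (.cbi j)) = 0 := by
    intro i j hij
    have := h _ (Or.inl (Or.inl (Or.inl ⟨⟨(i, j), hij⟩, rfl⟩)))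
    simpa only [eval_X, map_add, map_sub, map_mul] using this
  have hqc : ∀ (i j : Fin m) (hij : i ≠ j), v (.cij j i hij.symm) * v (.ci j) +
      v (.cij i j hij) * v (.ci i) - v (.ci i) * v (.ci j) - v .c = 0 := by
    intro i j hij
    have := h _ (Or.inl (Or.inl (Or.inr ⟨⟨(i, j), hij⟩, rfl⟩)))
    simpa only [eval_X, map_add, map_sub, map_mul] using this
  have hqb : ∀ (i j : Fin m) (hij : i ≠ j), v (.cij j i hij.symm) * v (.cbi i) +
      v (.cij i j hij) * v (.cbi j) - v (.cbi i) * v (.cbi j) - v .cb = 0 := by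
    intro i j hij
    have := h _ (Or.inl (Or.inr ⟨⟨(i, j), hij⟩, rfl⟩))
    simpa only [eval_X, map_add, map_sub, map_mul] using this
  refine ⟨hlin, hqc, hqb, ?_, ?_⟩
  · intro i j k hij hjk hik
    have := h _ (Or.inr ⟨⟨(i, j, k), hij, hjk, hik⟩, rfl⟩)
    simpa only [eval_X, map_add, map_sub, map_mul] using this
  · intro i
    by_cases hi : i = i0
    · subst hi; unfold dval; ring
    · unfold dval
      linear_combination (exp := 1)
        (-(v (UGen.cbi i) * v (UGen.ci i)) + v (UGen.cbi i0) * v (UGen.ci i0)) * hlin i i0 hi +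
        (v (UGen.cbi i) - v (UGen.cbi i0)) * hqc i i0 hi +
        (v (UGen.ci i) - v (UGen.ci i0)) * hqb i i0 hi

/-- **the main equivalence** -/
theorem basis_iff (hm : 1 ≤ m) (v : UGen m → R) :
    (LinearIndependent R (cmon R m v) ∧ Submodule.span R (Set.range (cmon R m v)) = ⊤) ↔
      (∀ p ∈ URel R m, MvPolynomial.eval v p = 0) := by
  constructor
  · rintro ⟨hli, -⟩
    exact rels_of_indep hm v hli
  · intro h
    exact basis_of_UHyp ⟨0, hm⟩ (UHyp_of_rels ⟨0, hm⟩ v h)

end Groth.Agent.Lib.Helper6.Groeb.Curve
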