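import Mathlib
import Groth.Prelude.Def_W4c5m1nsnscurvesC
import Groth.Prelude.Def_W4c5m1nsnscurvesI

/-!
# `O(C_n) ≅ O(U_{n+1})` over `O(U_n)` (helper6)
-/

set_option autoImplicit false
set_option linter.unusedSimpArgs false
set_option linter.unusedVariables false
universe u

namespace Groth.Agent.Lib.Helper6.Groeb.UC

open MvPolynomial W4c5m1nsnscurves

variable (R : Type u) [CommRing R] (m : ℕ)

/-! ### the relations of `URing` as equalities -/

theorem u_lin (i j : Fin m) (h : i ≠ j) :
    ugen R m (.cij i j h) + ugen R m (.cij j i h.symm) -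
      (ugen R m .a + ugen R m (.ci i) + ugen R m (.cbi i) + ugen R m (.ci j) +
        ugen R m (.cbi j)) = 0 := by
  have hmem : (X (.cij i j h) + X (.cij j i h.symm) -
      (X .a + X (.ci i) + X (.cbi i) + X (.ci j) + X (.cbi j)) : MvPolynomial (UGen m) R) ∈
      Ideal.span (URel R m) :=
    Ideal.subset_span (Or.inl (Or.inl (Or.inl ⟨⟨(i, j), h⟩, rfl⟩)))
  have := Ideal.Quotient.eq_zero_iff_mem.mpr hmem
  simpa only [map_add, map_sub, map_mul, ugen] using this

theorem u_qc (i j : Fin m) (h : i ≠ j) :
    ugen R m (.cij j i h.symm) * ugen R m (.ci j) + ugen R m (.cij i j h) * ugen R m (.ci i) -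
      ugen R m (.ci i) * ugen R m (.ci j) - ugen R m .c = 0 := by
  have hmem : (X (.cij j i h.symm) * X (.ci j) + X (.cij i j h) * X (.ci i) -
      X (.ci i) * X (.ci j) - X .c : MvPolynomial (UGen m) R) ∈ Ideal.span (URel R m) :=
    Ideal.subset_span (Or.inl (Or.inl (Or.inr ⟨⟨(i, j), h⟩, rfl⟩)))
  have := Ideal.Quotient.eq_zero_iff_mem.mpr hmem
  simpa only [map_add, map_sub, map_mul, ugen] using this

theorem u_qb (i j : Fin m) (h : i ≠ j) :
    ugen R m (.cij j i h.symm) * ugen R m (.cbi i) + ugen R m (.cij i j h) * ugen R m (.cbi j) -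
      ugen R m (.cbi i) * ugen R m (.cbi j) - ugen R m .cb = 0 := by
  have hmem : (X (.cij j i h.symm) * X (.cbi i) + X (.cij i j h) * X (.cbi j) -
      X (.cbi i) * X (.cbi j) - X .cb : MvPolynomial (UGen m) R) ∈ Ideal.span (URel R m) :=
    Ideal.subset_span (Or.inl (Or.inr ⟨⟨(i, j), h⟩, rfl⟩))
  have := Ideal.Quotient.eq_zero_iff_mem.mpr hmem
  simpa only [map_add, map_sub, map_mul, ugen] using this

theorem u_tr (i j k : Fin m) (hij : i ≠ j) (hjk : j ≠ k) (hik : i ≠ k) :
    ugen R m (.cij i j hij) * ugen R m (.cij j k hjk) +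
      ugen R m (.cij j i hij.symm) * ugen R m (.cij i k hik) -
      ugen R m (.cij i k hik) * ugen R m (.cij j k hjk) +
      (ugen R m .a + ugen R m (.ci k) + ugen R m (.cbi k)) * ugen R m (.ci k) - ugen R m .c = 0 := by
  have hmem : (X (.cij i j hij) * X (.cij j k hjk) + X (.cij j i hij.symm) * X (.cij i k hik) -
      X (.cij i k hik) * X (.cij j k hjk) + (X .a + X (.ci k) + X (.cbi k)) * X (.ci k) - X .c :
      MvPolynomial (UGen m) R) ∈ Ideal.span (URel R m) :=
    Ideal.subset_span (Or.inr ⟨⟨(i, j, k), hij, hjk, hik⟩, rfl⟩)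
  have := Ideal.Quotient.eq_zero_iff_mem.mpr hmem
  simpa only [map_add, map_sub, map_mul, ugen] using this

theorem uincl_ugen (g : UGen m) : uincl R m (ugen R m g) = ugen R (m + 1) g.castSucc := by
  show (uincl R m) (Ideal.Quotient.mk _ (X g)) = _
  rw [uincl, ← Ideal.Quotient.mkₐ_eq_mk R, Ideal.Quotient.liftₐ_apply, Ideal.Quotient.mkₐ_eq_mk,
    Ideal.Quotient.lift_mk]
  simp [ugen, rename_X]

/-! ### the curve algebra over `URing R m` -/

/-- the curve algebra over `O(U_n)` -/
abbrev CA : Type u := CurveAlg (URing R m) m (ugen R m)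

/-- the class of a coefficient -/
noncomputable def iota (g : UGen m) : CA R m :=
  Ideal.Quotient.mk _ (C (ugen R m g))

/-- the class of a variable -/
noncomputable def xx (y : CVar m) : CA R m := Ideal.Quotient.mk _ (X y)

theorem iota_eq (g : UGen m) :
    iota R m g = algebraMap (URing R m) (CA R m) (ugen R m g) := rfl

theorem ca_g1 (i : Fin m) :
    xx R m .x2 * xx R m (.xi i) = xx R m .x2 * xx R m .x3 + iota R m (.ci i) * xx R m (.xi i) +
      iota R m (.cbi i) * xx R m .x2 - iota R m .c := by
  have hmem : (X .x2 * X (.xi i) -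
      (X .x2 * X .x3 + C (ugen R m (.ci i)) * X (.xi i) + C (ugen R m (.cbi i)) * X .x2 -
        C (ugen R m .c)) : MvPolynomial (CVar m) (URing R m)) ∈
      Ideal.span (CRel (URing R m) m (ugen R m)) :=
    Ideal.subset_span (Or.inl (Or.inl ⟨i, rfl⟩))
  have := Ideal.Quotient.eq_zero_iff_mem.mpr hmem
  simp only [map_add, map_sub, map_mul] at this
  exact sub_eq_zero.mp this

theorem ca_g2 (i : Fin m) :
    xx R m .x3 * xx R m (.xi i) = xx R m .x2 * xx R m .x3 +
      (iota R m .a + iota R m (.ci i) + iota R m (.cbi i)) * (xx R m (.xi i) - iota R m (.cbi i)) +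
      iota R m .cb - iota R m .c := by
  have hmem : (X .x3 * X (.xi i) -
      (X .x2 * X .x3 + C (ugen R m .a + ugen R m (.ci i) + ugen R m (.cbi i)) *
        (X (.xi i) - C (ugen R m (.cbi i))) + C (ugen R m .cb) - C (ugen R m .c)) :
      MvPolynomial (CVar m) (URing R m)) ∈ Ideal.span (CRel (URing R m) m (ugen R m)) :=
    Ideal.subset_span (Or.inl (Or.inr ⟨i, rfl⟩))
  have := Ideal.Quotient.eq_zero_iff_mem.mpr hmem
  simp only [map_add, map_sub, map_mul] at this
  exact sub_eq_zero.mp this

theorem ca_g3 (i j : Fin m) (h : i ≠ j) :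
    xx R m (.xi i) * xx R m (.xi j) = xx R m .x2 * xx R m .x3 +
      iota R m (.cij i j h) * xx R m (.xi j) + iota R m (.cij j i h.symm) * xx R m (.xi i) -
      iota R m .c := by
  have hmem : (X (.xi i) * X (.xi j) -
      (X .x2 * X .x3 + C (ugen R m (.cij i j h)) * X (.xi j) +
        C (ugen R m (.cij j i h.symm)) * X (.xi i) - C (ugen R m .c)) :
      MvPolynomial (CVar m) (URing R m)) ∈ Ideal.span (CRel (URing R m) m (ugen R m)) :=
    Ideal.subset_span (Or.inr ⟨⟨(i, j), h⟩, rfl⟩)
  have := Ideal.Quotient.eq_zero_iff_mem.mpr hmem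
  simp only [map_add, map_sub, map_mul] at this
  exact sub_eq_zero.mp this

/-- images in `CA` of the relations of `URing R m` -/
theorem ca_lin (i j : Fin m) (h : i ≠ j) :
    iota R m (.cij i j h) + iota R m (.cij j i h.symm) -
      (iota R m .a + iota R m (.ci i) + iota R m (.cbi i) + iota R m (.ci j) +
        iota R m (.cbi j)) = 0 := by
  have := congrArg (algebraMap (URing R m) (CA R m)) (u_lin R m i j h)
  simp only [map_add, map_sub, map_mul, map_zero] at this
  exact this

theorem ca_qc (i j : Fin m) (h : i ≠ j) :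
    iota R m (.cij j i h.symm) * iota R m (.ci j) + iota R m (.cij i j h) * iota R m (.ci i) -
      iota R m (.ci i) * iota R m (.ci j) - iota R m .c = 0 := by
  have := congrArg (algebraMap (URing R m) (CA R m)) (u_qc R m i j h)
  simp only [map_add, map_sub, map_mul, map_zero] at this
  exact this

theorem ca_qb (i j : Fin m) (h : i ≠ j) :
    iota R m (.cij j i h.symm) * iota R m (.cbi i) + iota R m (.cij i j h) * iota R m (.cbi j) -
      iota R m (.cbi i) * iota R m (.cbi j) - iota R m .cb = 0 := by
  have := congrArg (algebraMap (URing R m) (CA R m)) (u_qb R m i j h)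
  simp only [map_add, map_sub, map_mul, map_zero] at this
  exact this

theorem ca_tr (i j k : Fin m) (hij : i ≠ j) (hjk : j ≠ k) (hik : i ≠ k) :
    iota R m (.cij i j hij) * iota R m (.cij j k hjk) +
      iota R m (.cij j i hij.symm) * iota R m (.cij i k hik) -
      iota R m (.cij i k hik) * iota R m (.cij j k hjk) +
      (iota R m .a + iota R m (.ci k) + iota R m (.cbi k)) * iota R m (.ci k) - iota R m .c = 0 := by
  have := congrArg (algebraMap (URing R m) (CA R m)) (u_tr R m i j k hij hjk hik)
  simp only [map_add, map_sub, map_mul, map_zero] at this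
  exact this

/-! ### the forward map -/

/-- images of the variables -/
noncomputable def fvar : CVar m → URing R (m + 1)
  | .x2 => ugen R (m + 1) (.ci (Fin.last m))
  | .x3 => ugen R (m + 1) .a + ugen R (m + 1) (.ci (Fin.last m)) +
      ugen R (m + 1) (.cbi (Fin.last m))
  | .xi i => ugen R (m + 1) (.cij i.castSucc (Fin.last m) (Fin.castSucc_lt_last i).ne)

noncomputable def fwd0 : MvPolynomial (CVar m) (URing R m) →+* URing R (m + 1) :=
  eval₂Hom (uincl R m : URing R m →+* URing R (m + 1)) (fvar R m)

theorem fwd0_C (r : URing R m) : fwd0 R m (C r) = uincl R m r := by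
  simp [fwd0]

theorem fwd0_X (y : CVar m) : fwd0 R m (X y) = fvar R m y := by
  simp [fwd0]

theorem castSucc_ne {i j : Fin m} (h : i ≠ j) : i.castSucc ≠ j.castSucc :=
  fun e => h (Fin.castSucc_injective _ e)

theorem fwd0_CRel (p : MvPolynomial (CVar m) (URing R m))
    (hp : p ∈ CRel (URing R m) m (ugen R m)) : fwd0 R m p = 0 := by
  rcases hp with (⟨i, rfl⟩ | ⟨i, rfl⟩) | ⟨q, rfl⟩
  · simp only [map_sub, map_add, map_mul, fwd0_C, fwd0_X, fvar, uincl_ugen, UGen.castSucc]
    have h1 := u_lin R (m + 1) i.castSucc (Fin.last m) (Fin.castSucc_lt_last i).ne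
    have h2 := u_qc R (m + 1) i.castSucc (Fin.last m) (Fin.castSucc_lt_last i).ne
    linear_combination (exp := 1) (ugen R (m + 1) (.ci (Fin.last m))) * h1 - h2
  · simp only [map_sub, map_add, map_mul, fwd0_C, fwd0_X, fvar, uincl_ugen, UGen.castSucc]
    have h1 := u_lin R (m + 1) i.castSucc (Fin.last m) (Fin.castSucc_lt_last i).ne
    have h2 := u_qc R (m + 1) i.castSucc (Fin.last m) (Fin.castSucc_lt_last i).ne
    have h3 := u_qb R (m + 1) i.castSucc (Fin.last m) (Fin.castSucc_lt_last i).ne
    linear_combination (exp := 1)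
      (-ugen R (m + 1) (.cbi i.castSucc) + ugen R (m + 1) (.ci (Fin.last m))) * h1 - h2 + h3
  · obtain ⟨⟨i, j⟩, hij⟩ := q
    change i ≠ j at hij
    simp only [map_sub, map_add, map_mul, fwd0_C, fwd0_X, fvar, uincl_ugen, UGen.castSucc]
    have h1 := u_tr R (m + 1) i.castSucc j.castSucc (Fin.last m) (castSucc_ne m hij)
      (Fin.castSucc_lt_last j).ne (Fin.castSucc_lt_last i).ne
    linear_combination (exp := 1) (-1) * h1

/-- the forward map `O(C_n) → O(U_{n+1})` -/
noncomputable def fwd : CA R m →+* URing R (m + 1) :=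
  Ideal.Quotient.lift _ (fwd0 R m) (fun a ha =>
    RingHom.mem_ker.mp ((Ideal.span_le.mpr fun p hp =>
      RingHom.mem_ker.mpr (fwd0_CRel R m p hp)) ha))

theorem fwd_mk (p : MvPolynomial (CVar m) (URing R m)) :
    fwd R m (Ideal.Quotient.mk _ p) = fwd0 R m p := by
  simp [fwd]

theorem fwd_iota (g : UGen m) : fwd R m (iota R m g) = ugen R (m + 1) g.castSucc := by
  rw [iota, fwd_mk, fwd0_C, uincl_ugen]

theorem fwd_xx (y : CVar m) : fwd R m (xx R m y) = fvar R m y := by
  rw [xx, fwd_mk, fwd0_X]

/-! ### the backward map -/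

noncomputable def gci (t : Fin (m + 1)) : CA R m :=
  Fin.lastCases (xx R m .x2) (fun t' => iota R m (.ci t')) t

noncomputable def gcbi (t : Fin (m + 1)) : CA R m :=
  Fin.lastCases (xx R m .x3 - iota R m .a - xx R m .x2) (fun t' => iota R m (.cbi t')) t

noncomputable def gcij (s t : Fin (m + 1)) : CA R m :=
  Fin.lastCases
    (Fin.lastCases 0
      (fun t' => iota R m (.ci t') + iota R m (.cbi t') + xx R m .x3 - xx R m (.xi t')) t)
    (fun s' => Fin.lastCases (xx R m (.xi s'))
      (fun t' => if h : s' = t' then 0 else iota R m (.cij s' t' h)) t) s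

noncomputable def gvar : UGen (m + 1) → CA R m
  | .a => iota R m .a
  | .c => iota R m .c
  | .cb => iota R m .cb
  | .ci t => gci R m t
  | .cbi t => gcbi R m t
  | .cij s t _ => gcij R m s t

/-- the structure map `R → CA` -/
noncomputable def c0 : R →+* CA R m :=
  (algebraMap (URing R m) (CA R m)).comp (algebraMap R (URing R m))

noncomputable def bwd0 : MvPolynomial (UGen (m + 1)) R →+* CA R m :=
  eval₂Hom (c0 R m) (gvar R m)

theorem bwd0_X (g : UGen (m + 1)) : bwd0 R m (X g) = gvar R m g := by
  simp [bwd0]

theorem bwd0_C (r : R) : bwd0 R m (C r) = c0 R m r := by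
  simp [bwd0]

theorem g_lin (s t : Fin (m + 1)) (h : s ≠ t) :
    gcij R m s t + gcij R m t s -
      (iota R m .a + gci R m s + gcbi R m s + gci R m t + gcbi R m t) = 0 := by
  revert h
  induction s using Fin.lastCases with
  | last =>
    induction t using Fin.lastCases with
    | last => intro h; exact absurd rfl h
    | cast t' =>
      intro h
      simp only [gcij, gci, gcbi, Fin.lastCases_last, Fin.lastCases_castSucc]
      ring
  | cast s' =>
    induction t using Fin.lastCases with
    | last =>
      intro h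
      simp only [gcij, gci, gcbi, Fin.lastCases_last, Fin.lastCases_castSucc]
      ring
    | cast t' =>
      intro h
      have h' : s' ≠ t' := fun e => h (by rw [e])
      simp only [gcij, gci, gcbi, Fin.lastCases_last, Fin.lastCases_castSucc, dif_neg h',
        dif_neg h'.symm]
      exact ca_lin R m s' t' h'

theorem g_qc (s t : Fin (m + 1)) (h : s ≠ t) :
    gcij R m t s * gci R m t + gcij R m s t * gci R m s - gci R m s * gci R m t -
      iota R m .c = 0 := by
  revert h
  induction s using Fin.lastCases with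
  | last =>
    induction t using Fin.lastCases with
    | last => intro h; exact absurd rfl h
    | cast t' =>
      intro h
      simp only [gcij, gci, gcbi, Fin.lastCases_last, Fin.lastCases_castSucc]
      linear_combination (exp := 1) (-1) * ca_g1 R m t'
  | cast s' =>
    induction t using Fin.lastCases with
    | last =>
      intro h
      simp only [gcij, gci, gcbi, Fin.lastCases_last, Fin.lastCases_castSucc]
      linear_combination (exp := 1) (-1) * ca_g1 R m s'
    | cast t' =>
      intro h
      have h' : s' ≠ t' := fun e => h (by rw [e])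
      simp only [gcij, gci, gcbi, Fin.lastCases_last, Fin.lastCases_castSucc, dif_neg h',
        dif_neg h'.symm]
      exact ca_qc R m s' t' h'

theorem g_qb (s t : Fin (m + 1)) (h : s ≠ t) :
    gcij R m t s * gcbi R m s + gcij R m s t * gcbi R m t - gcbi R m s * gcbi R m t -
      iota R m .cb = 0 := by
  revert h
  induction s using Fin.lastCases with
  | last =>
    induction t using Fin.lastCases with
    | last => intro h; exact absurd rfl h
    | cast t' =>
      intro h
      simp only [gcij, gci, gcbi, Fin.lastCases_last, Fin.lastCases_castSucc]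
      linear_combination (exp := 1) ca_g2 R m t' - ca_g1 R m t'
  | cast s' =>
    induction t using Fin.lastCases with
    | last =>
      intro h
      simp only [gcij, gci, gcbi, Fin.lastCases_last, Fin.lastCases_castSucc]
      linear_combination (exp := 1) ca_g2 R m s' - ca_g1 R m s'
    | cast t' =>
      intro h
      have h' : s' ≠ t' := fun e => h (by rw [e])
      simp only [gcij, gci, gcbi, Fin.lastCases_last, Fin.lastCases_castSucc, dif_neg h',
        dif_neg h'.symm]
      exact ca_qb R m s' t' h'

theorem g_tr (s t w : Fin (m + 1)) (hst : s ≠ t) (htw : t ≠ w) (hsw : s ≠ w) :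
    gcij R m s t * gcij R m t w + gcij R m t s * gcij R m s w - gcij R m s w * gcij R m t w +
      (iota R m .a + gci R m w + gcbi R m w) * gci R m w - iota R m .c = 0 := by
  revert hst htw hsw
  induction s using Fin.lastCases with
  | last =>
    induction t using Fin.lastCases with
    | last => intro hst; exact absurd rfl hst
    | cast t' =>
      induction w using Fin.lastCases with
      | last => intro _ _ hsw; exact absurd rfl hsw
      | cast w' =>
        intro _ htw _
        have h' : t' ≠ w' := fun e => htw (by rw [e])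
        simp only [gcij, gci, gcbi, Fin.lastCases_last, Fin.lastCases_castSucc, dif_neg h',
          dif_neg h'.symm]
        linear_combination (exp := 1) ca_g2 R m t' - ca_g3 R m t' w' h' +
          (-xx R m (.xi t') + iota R m (.cbi t') - iota R m (.ci w')) * ca_lin R m t' w' h' +
          ca_qc R m t' w' h' - ca_qb R m t' w' h'
  | cast s' =>
    induction t using Fin.lastCases with
    | last =>
      induction w using Fin.lastCases with
      | last => intro _ htw; exact absurd rfl htw
      | cast w' =>
        intro _ _ hsw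
        have h' : s' ≠ w' := fun e => hsw (by rw [e])
        simp only [gcij, gci, gcbi, Fin.lastCases_last, Fin.lastCases_castSucc, dif_neg h',
          dif_neg h'.symm]
        linear_combination (exp := 1) ca_g2 R m s' - ca_g3 R m s' w' h' +
          (-xx R m (.xi s') + iota R m (.cbi s') - iota R m (.ci w')) * ca_lin R m s' w' h' +
          ca_qc R m s' w' h' - ca_qb R m s' w' h'
    | cast t' =>
      induction w using Fin.lastCases with
      | last =>
        intro hst _ _
        have h' : s' ≠ t' := fun e => hst (by rw [e])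
        simp only [gcij, gci, gcbi, Fin.lastCases_last, Fin.lastCases_castSucc, dif_neg h',
          dif_neg h'.symm]
        linear_combination (exp := 1) (-1) * ca_g3 R m s' t' h'
      | cast w' =>
        intro hst htw hsw
        have h1 : s' ≠ t' := fun e => hst (by rw [e])
        have h2 : t' ≠ w' := fun e => htw (by rw [e])
        have h3 : s' ≠ w' := fun e => hsw (by rw [e])
        simp only [gcij, gci, gcbi, Fin.lastCases_last, Fin.lastCases_castSucc, dif_neg h1,
          dif_neg h1.symm, dif_neg h2, dif_neg h2.symm, dif_neg h3, dif_neg h3.symm]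
        exact ca_tr R m s' t' w' h1 h2 h3

theorem bwd0_URel (p : MvPolynomial (UGen (m + 1)) R) (hp : p ∈ URel R (m + 1)) :
    bwd0 R m p = 0 := by
  rcases hp with ((⟨q, rfl⟩ | ⟨q, rfl⟩) | ⟨q, rfl⟩) | ⟨q, rfl⟩
  · obtain ⟨⟨s, t⟩, h⟩ := q
    change s ≠ t at h
    simp only [map_sub, map_add, map_mul, bwd0_X, gvar]
    exact g_lin R m s t h
  · obtain ⟨⟨s, t⟩, h⟩ := q
    change s ≠ t at h
    simp only [map_sub, map_add, map_mul, bwd0_X, gvar]
    exact g_qc R m s t h
  · obtain ⟨⟨s, t⟩, h⟩ := q
    change s ≠ t at h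
    simp only [map_sub, map_add, map_mul, bwd0_X, gvar]
    exact g_qb R m s t h
  · obtain ⟨⟨s, t, w⟩, hst, htw, hsw⟩ := q
    change s ≠ t at hst
    change t ≠ w at htw
    change s ≠ w at hsw
    simp only [map_sub, map_add, map_mul, bwd0_X, gvar]
    exact g_tr R m s t w hst htw hsw

/-- the backward map `O(U_{n+1}) → O(C_n)` -/
noncomputable def bwd : URing R (m + 1) →+* CA R m :=
  Ideal.Quotient.lift _ (bwd0 R m) (fun a ha =>
    RingHom.mem_ker.mp ((Ideal.span_le.mpr fun p hp =>
      RingHom.mem_ker.mpr (bwd0_URel R m p hp)) ha))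

theorem bwd_ugen (g : UGen (m + 1)) : bwd R m (ugen R (m + 1) g) = gvar R m g := by
  simp [bwd, ugen, bwd0_X]

theorem gvar_castSucc (g : UGen m) : gvar R m g.castSucc = iota R m g := by
  cases g with
  | a => rfl
  | c => rfl
  | cb => rfl
  | ci i => simp only [UGen.castSucc, gvar, gci, Fin.lastCases_castSucc]
  | cbi i => simp only [UGen.castSucc, gvar, gcbi, Fin.lastCases_castSucc]
  | cij i j h => simp only [UGen.castSucc, gvar, gcij, Fin.lastCases_castSucc, dif_neg h]

/-! ### the compositions -/

theorem bwd_uincl : (bwd R m).comp (uincl R m : URing R m →+* URing R (m + 1)) =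
    algebraMap (URing R m) (CA R m) := by
  apply Ideal.Quotient.ringHom_ext
  apply MvPolynomial.ringHom_ext
  · intro r
    show bwd R m (uincl R m (Ideal.Quotient.mk _ (C r))) =
      algebraMap (URing R m) (CA R m) (Ideal.Quotient.mk _ (C r))
    have e1 : (Ideal.Quotient.mk (Ideal.span (URel R m)) (C r)) = algebraMap R (URing R m) r := rfl
    rw [e1, AlgHom.commutes]
    have e2 : algebraMap R (URing R (m + 1)) r = Ideal.Quotient.mk _ (C r) := rfl
    rw [e2]
    simp [bwd, bwd0_C, c0]
  · intro g
    show bwd R m (uincl R m (ugen R m g)) = algebraMap (URing R m) (CA R m) (ugen R m g)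
    rw [uincl_ugen, bwd_ugen, gvar_castSucc, iota_eq]

theorem bwd_fwd : (bwd R m).comp (fwd R m) = RingHom.id (CA R m) := by
  apply Ideal.Quotient.ringHom_ext
  apply MvPolynomial.ringHom_ext
  · intro r
    show bwd R m (fwd R m (Ideal.Quotient.mk _ (C r))) = Ideal.Quotient.mk _ (C r)
    rw [fwd_mk, fwd0_C]
    have := congrArg (fun f => f r) (bwd_uincl R m)
    exact this
  · intro y
    show bwd R m (fwd R m (xx R m y)) = xx R m y
    rw [fwd_xx]
    cases y with
    | x2 => simp only [fvar, bwd_ugen, gvar, gci, Fin.lastCases_last]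
    | x3 =>
      simp only [fvar, map_add, bwd_ugen, gvar, gci, gcbi, Fin.lastCases_last]
      ring
    | xi i => simp only [fvar, bwd_ugen, gvar, gcij, Fin.lastCases_last, Fin.lastCases_castSucc]

theorem fwd_gvar (g : UGen (m + 1)) : fwd R m (gvar R m g) = ugen R (m + 1) g := by
  cases g with
  | a => exact fwd_iota R m .a
  | c => exact fwd_iota R m .c
  | cb => exact fwd_iota R m .cb
  | ci t =>
    induction t using Fin.lastCases with
    | last => simp only [gvar, gci, Fin.lastCases_last, fwd_xx, fvar]
    | cast t' => simp only [gvar, gci, Fin.lastCases_castSucc, fwd_iota, UGen.castSucc]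
  | cbi t =>
    induction t using Fin.lastCases with
    | last =>
      simp only [gvar, gcbi, Fin.lastCases_last, map_sub, fwd_xx, fwd_iota, fvar, UGen.castSucc]
      ring
    | cast t' => simp only [gvar, gcbi, Fin.lastCases_castSucc, fwd_iota, UGen.castSucc]
  | cij s t h =>
    revert h
    induction s using Fin.lastCases with
    | last =>
      induction t using Fin.lastCases with
      | last => intro h; exact absurd rfl h
      | cast t' =>
        intro h
        simp only [gvar, gcij, Fin.lastCases_last, Fin.lastCases_castSucc, map_sub, map_add,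
          fwd_xx, fwd_iota, fvar, UGen.castSucc]
        have h1 := u_lin R (m + 1) t'.castSucc (Fin.last m) (Fin.castSucc_lt_last t').ne
        linear_combination (exp := 1) (-1) * h1
    | cast s' =>
      induction t using Fin.lastCases with
      | last =>
        intro h
        simp only [gvar, gcij, Fin.lastCases_last, Fin.lastCases_castSucc, fwd_xx, fvar]
      | cast t' =>
        intro h
        have h' : s' ≠ t' := fun e => h (by rw [e])
        simp only [gvar, gcij, Fin.lastCases_castSucc, dif_neg h', fwd_iota, UGen.castSucc]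

theorem fwd_bwd : (fwd R m).comp (bwd R m) = RingHom.id (URing R (m + 1)) := by
  apply Ideal.Quotient.ringHom_ext
  apply MvPolynomial.ringHom_ext
  · intro r
    show fwd R m (bwd R m (Ideal.Quotient.mk _ (C r))) = Ideal.Quotient.mk _ (C r)
    have e0 : bwd R m (Ideal.Quotient.mk _ (C r)) = c0 R m r := by simp [bwd, bwd0_C]
    rw [e0]
    show fwd R m (Ideal.Quotient.mk _ (C (algebraMap R (URing R m) r))) = _
    rw [fwd_mk, fwd0_C, AlgHom.commutes]
    rfl
  · intro g
    show fwd R m (bwd R m (ugen R (m + 1) g)) = ugen R (m + 1) g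
    rw [bwd_ugen, fwd_gvar]

/-- **the isomorphism `O(C_n) ≅ O(U_{n+1})`** -/
noncomputable def equiv : CA R m ≃+* URing R (m + 1) :=
  RingEquiv.ofRingHom (fwd R m) (bwd R m) (fwd_bwd R m) (bwd_fwd R m)

theorem equiv_apply (x : CA R m) : equiv R m x = fwd R m x := rfl

theorem equiv_algebraMap (r : URing R m) :
    equiv R m (algebraMap (URing R m) (CA R m) r) = uincl R m r := by
  rw [equiv_apply]
  show fwd R m (Ideal.Quotient.mk _ (C r)) = _
  rw [fwd_mk, fwd0_C]

end Groth.Agent.Lib.Helper6.Groeb.UC
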