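import Mathlib
import Groth.Prelude.Def_W4c5m1nsnscurvesU
import Groth.Agent.Lib.Helper6.Groeb.UCiso

/-!
# The cotangent space of `U_n` at the origin, and generation in weight one (helper6)
-/

set_option autoImplicit false
set_option linter.unusedSimpArgs false
set_option linter.unusedVariables false
universe u

noncomputable section

namespace Groth.Agent.Lib.Helper6.Groeb.UCot

open MvPolynomial W4c5m1nsnscurves Groth.Agent.Lib.Helper6.Groeb

/-- the index set of the basis of the cotangent space -/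
abbrev TT (m : ℕ) : Type := Option (Fin m ⊕ (Fin m ⊕ {q : Fin m × Fin m // q.1 < q.2}))

variable {m : ℕ}

def tC (i : Fin m) : TT m := some (Sum.inl i)
def tB (i : Fin m) : TT m := some (Sum.inr (Sum.inl i))
def tP (i j : Fin m) (h : i < j) : TT m := some (Sum.inr (Sum.inr ⟨(i, j), h⟩))

/-- the generator attached to an index -/
def gen : TT m → UGen m
  | none => .a
  | some (Sum.inl i) => .ci i
  | some (Sum.inr (Sum.inl i)) => .cbi i
  | some (Sum.inr (Sum.inr q)) => .cij q.1.1 q.1.2 (ne_of_lt q.2)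

/-! ### counting -/

theorem card_lt (m : ℕ) : Fintype.card {q : Fin m × Fin m // q.1 < q.2} * 2 = m * (m - 1) := by
  rw [Fintype.card_subtype, Finset.card_filter, Fintype.sum_prod_type, Finset.sum_comm]
  have h : ∀ j : Fin m, (∑ i : Fin m, if i < j then 1 else 0) = (j : ℕ) := by
    intro j
    rw [← Finset.card_filter, ← Fin.card_Iio j]
    congr 1
    ext i
    simp
  simp only [h]
  rw [Fin.sum_univ_eq_sum_range (fun i => i) m, Finset.sum_range_id_mul_two]

theorem card_TT (m : ℕ) : Fintype.card (TT m) = (m + 2) * (m + 1) / 2 := by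
  have h := card_lt m
  rw [Fintype.card_option, Fintype.card_sum, Fintype.card_sum, Fintype.card_fin]
  have e : (m + 2) * (m + 1) = m * (m - 1) + 4 * m + 2 := by
    cases m with
    | zero => rfl
    | succ n =>
      simp only [Nat.add_sub_cancel]
      ring
  symm
  apply Nat.div_eq_of_eq_mul_left (by norm_num)
  rw [e, ← h]
  ring

section field

variable (k : Type u) [Field k]

/-- basis vectors -/
def E (t : TT m) : TT m → k := Pi.single t 1

/-- the linear parts of the generators -/
def ell : UGen m → (TT m → k)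
  | .a => E k none
  | .c => 0
  | .cb => 0
  | .ci i => E k (tC i)
  | .cbi i => E k (tB i)
  | .cij i j h =>
      if hlt : i < j then E k (tP i j hlt)
      else E k none + E k (tC i) + E k (tB i) + E k (tC j) + E k (tB j) -
        E k (tP j i (lt_of_le_of_ne (not_lt.mp hlt) (Ne.symm h)))

theorem ell_lin (i j : Fin m) (h : i ≠ j) :
    ell k (.cij i j h) + ell k (.cij j i h.symm) -
      (ell k .a + ell k (.ci i) + ell k (.cbi i) + ell k (.ci j) + ell k (.cbi j)) = 0 := by
  rcases lt_or_gt_of_ne h with hlt | hgt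
  · have h2 : ¬ j < i := not_lt_of_gt hlt
    simp only [ell, dif_pos hlt, dif_neg h2]
    abel
  · have h2 : ¬ i < j := not_lt_of_gt hgt
    simp only [ell, dif_pos hgt, dif_neg h2]
    abel

/-- the `1`-jet at the origin on polynomials -/
def jet0 : MvPolynomial (UGen m) k →ₐ[k] TrivSqZeroExt k (TT m → k) :=
  aeval (fun g => TrivSqZeroExt.inr (ell k g))

theorem jet0_X (g : UGen m) : jet0 k (X g) = TrivSqZeroExt.inr (ell k g) := by
  simp [jet0]

theorem jet0_URel (p : MvPolynomial (UGen m) k) (hp : p ∈ URel k m) : jet0 k p = 0 := by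
  rcases hp with ((⟨q, rfl⟩ | ⟨q, rfl⟩) | ⟨q, rfl⟩) | ⟨q, rfl⟩
  · obtain ⟨⟨i, j⟩, hij⟩ := q
    change i ≠ j at hij
    simp only [map_add, map_sub, jet0_X, ← TrivSqZeroExt.inr_add, ← TrivSqZeroExt.inr_sub]
    rw [ell_lin k i j hij, TrivSqZeroExt.inr_zero]
  · obtain ⟨⟨i, j⟩, hij⟩ := q
    simp only [map_add, map_sub, map_mul, jet0_X, TrivSqZeroExt.inr_mul_inr]
    simp [ell]
  · obtain ⟨⟨i, j⟩, hij⟩ := q
    simp only [map_add, map_sub, map_mul, jet0_X, TrivSqZeroExt.inr_mul_inr]
    simp [ell]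
  · obtain ⟨⟨i, j, l⟩, hij, hjl, hil⟩ := q
    simp only [map_add, map_sub, map_mul, jet0_X, add_mul, TrivSqZeroExt.inr_mul_inr]
    simp [ell]

/-- the `1`-jet at the origin -/
def jet : URing k m →ₐ[k] TrivSqZeroExt k (TT m → k) :=
  Ideal.Quotient.liftₐ (Ideal.span (URel k m)) (jet0 k) (fun a ha =>
    RingHom.mem_ker.mp ((Ideal.span_le.mpr fun p hp =>
      RingHom.mem_ker.mpr (jet0_URel k p hp)) ha))

theorem jet_mk (p : MvPolynomial (UGen m) k) :
    jet k (Ideal.Quotient.mk (Ideal.span (URel k m)) p) = jet0 k p := by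
  rw [jet, ← Ideal.Quotient.mkₐ_eq_mk k, Ideal.Quotient.liftₐ_apply, Ideal.Quotient.mkₐ_eq_mk,
    Ideal.Quotient.lift_mk]
  rfl

theorem jet_ugen (g : UGen m) : jet k (ugen k m g) = TrivSqZeroExt.inr (ell k g) := by
  rw [ugen, jet_mk, jet0_X]

theorem ugen_mem_origin (g : UGen m) : ugen k m g ∈ uorigin k m :=
  Ideal.subset_span ⟨g, rfl⟩

theorem fst_jet_mem {x : URing k m} (hx : x ∈ uorigin k m) : (jet k x).fst = 0 := by
  have key : ∀ (y : URing k m) (hy : y ∈ Submodule.span (URing k m) (Set.range (ugen k m))),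
      (jet k y).fst = 0 := by
    intro y hy
    induction hy using Submodule.span_induction with
    | mem x hx =>
      obtain ⟨g, rfl⟩ := hx
      rw [jet_ugen, TrivSqZeroExt.fst_inr]
    | zero => rw [map_zero, TrivSqZeroExt.fst_zero]
    | add x y _ _ ihx ihy => rw [map_add, TrivSqZeroExt.fst_add, ihx, ihy, add_zero]
    | smul a x _ ihx => rw [smul_eq_mul, map_mul, TrivSqZeroExt.fst_mul, ihx, mul_zero]
  exact key x hx

theorem jet_sq {z : URing k m} (hz : z ∈ uorigin k m ^ 2) : jet k z = 0 := by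
  have h : uorigin k m ^ 2 ≤ RingHom.ker (jet k) := by
    rw [pow_two, Ideal.mul_le]
    intro r hr s hs
    rw [RingHom.mem_ker, map_mul]
    refine TrivSqZeroExt.ext ?_ ?_
    · rw [TrivSqZeroExt.fst_mul, fst_jet_mem k hr, zero_mul, TrivSqZeroExt.fst_zero]
    · rw [TrivSqZeroExt.snd_mul, fst_jet_mem k hr, fst_jet_mem k hs]
      simp
  exact RingHom.mem_ker.mp (h hz)

theorem sub_aug_mem (x : URing k m) :
    x - algebraMap k (URing k m) (jet k x).fst ∈ uorigin k m := by
  obtain ⟨p, rfl⟩ := Ideal.Quotient.mk_surjective x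
  induction p using MvPolynomial.induction_on with
  | C r =>
    have e : Ideal.Quotient.mk (Ideal.span (URel k m)) (C r) = algebraMap k (URing k m) r := rfl
    rw [e, AlgHom.commutes, TrivSqZeroExt.algebraMap_eq_inl, TrivSqZeroExt.fst_inl, sub_self]
    exact Ideal.zero_mem _
  | add p q hp hq =>
    rw [map_add, map_add, TrivSqZeroExt.fst_add, map_add]
    have e : ∀ a b c d : URing k m, a + b - (c + d) = (a - c) + (b - d) := by
      intro a b c d; ring
    rw [e]
    exact Ideal.add_mem _ hp hq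
  | mul_X p g hp =>
    rw [map_mul, map_mul, TrivSqZeroExt.fst_mul]
    have e : jet k (Ideal.Quotient.mk _ (X g)) = TrivSqZeroExt.inr (ell k g) := jet_ugen k g
    rw [e, TrivSqZeroExt.fst_inr, mul_zero, map_zero, sub_zero]
    exact Ideal.mul_mem_left _ _ (ugen_mem_origin k g)

theorem toCot_smul (r : k) (y : uorigin k m) :
    (uorigin k m).toCotangent (r • y) = r • (uorigin k m).toCotangent y := rfl

/-- the class of a generator in the cotangent space -/
def cl (g : UGen m) : (uorigin k m).Cotangent :=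
  (uorigin k m).toCotangent ⟨ugen k m g, ugen_mem_origin k g⟩

theorem span_cl : Submodule.span k (Set.range (cl k (m := m))) = ⊤ := by
  rw [eq_top_iff]
  rintro z -
  obtain ⟨⟨y, hy⟩, rfl⟩ := Ideal.toCotangent_surjective _ z
  have key : ∀ (y : URing k m) (hy : y ∈ Submodule.span (URing k m) (Set.range (ugen k m))),
      (uorigin k m).toCotangent ⟨y, hy⟩ ∈ Submodule.span k (Set.range (cl k (m := m))) := by
    intro y hy
    induction hy using Submodule.span_induction with
    | mem x hx =>
      obtain ⟨g, rfl⟩ := hx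
      exact Submodule.subset_span ⟨g, rfl⟩
    | zero =>
      have e : (⟨0, Submodule.zero_mem _⟩ : uorigin k m) = 0 := rfl
      rw [e, map_zero]
      exact Submodule.zero_mem _
    | add x y hx hy ihx ihy =>
      have e : (⟨x + y, Submodule.add_mem _ hx hy⟩ : uorigin k m) = ⟨x, hx⟩ + ⟨y, hy⟩ := rfl
      rw [e, map_add]
      exact Submodule.add_mem _ ihx ihy
    | smul a x hx ihx =>
      have hdec := sub_aug_mem k a
      have e : (⟨a • x, Submodule.smul_mem _ a hx⟩ : uorigin k m) =
          (jet k a).fst • (⟨x, hx⟩ : uorigin k m) +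
            ⟨(a - algebraMap k (URing k m) (jet k a).fst) * x, Ideal.mul_mem_left _ _ hx⟩ := by
        apply Subtype.ext
        show a • x = (jet k a).fst • x + (a - algebraMap k (URing k m) (jet k a).fst) * x
        have hs : (jet k a).fst • x = algebraMap k (URing k m) (jet k a).fst * x :=
          Algebra.smul_def (jet k a).fst x
        rw [hs, smul_eq_mul]
        ring
      rw [e, map_add, toCot_smul]
      have hz : (uorigin k m).toCotangent
          ⟨(a - algebraMap k (URing k m) (jet k a).fst) * x, Ideal.mul_mem_left _ _ hx⟩ = 0 := by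
        rw [Ideal.toCotangent_eq_zero, pow_two]
        exact Ideal.mul_mem_mul hdec hx
      rw [hz, add_zero]
      exact Submodule.smul_mem _ _ ihx
  exact key y hy

theorem cl_c (hm : 2 ≤ m) : cl k (m := m) .c = 0 := by
  rw [cl, Ideal.toCotangent_eq_zero, pow_two]
  show ugen k m .c ∈ uorigin k m * uorigin k m
  have h01 : (⟨0, by omega⟩ : Fin m) ≠ ⟨1, by omega⟩ := by
    intro h
    simp [Fin.ext_iff] at h
  have h := UC.u_qc k m ⟨0, by omega⟩ ⟨1, by omega⟩ h01
  have e : ugen k m .c =
      ugen k m (.cij ⟨1, by omega⟩ ⟨0, by omega⟩ h01.symm) * ugen k m (.ci ⟨1, by omega⟩) +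
        ugen k m (.cij ⟨0, by omega⟩ ⟨1, by omega⟩ h01) * ugen k m (.ci ⟨0, by omega⟩) -
        ugen k m (.ci ⟨0, by omega⟩) * ugen k m (.ci ⟨1, by omega⟩) := by
    linear_combination (-1) * h
  rw [e]
  exact Ideal.sub_mem _ (Ideal.add_mem _
    (Ideal.mul_mem_mul (ugen_mem_origin k _) (ugen_mem_origin k _))
    (Ideal.mul_mem_mul (ugen_mem_origin k _) (ugen_mem_origin k _)))
    (Ideal.mul_mem_mul (ugen_mem_origin k _) (ugen_mem_origin k _))

theorem cl_cb (hm : 2 ≤ m) : cl k (m := m) .cb = 0 := by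
  rw [cl, Ideal.toCotangent_eq_zero, pow_two]
  show ugen k m .cb ∈ uorigin k m * uorigin k m
  have h01 : (⟨0, by omega⟩ : Fin m) ≠ ⟨1, by omega⟩ := by
    intro h
    simp [Fin.ext_iff] at h
  have h := UC.u_qb k m ⟨0, by omega⟩ ⟨1, by omega⟩ h01
  have e : ugen k m .cb =
      ugen k m (.cij ⟨1, by omega⟩ ⟨0, by omega⟩ h01.symm) * ugen k m (.cbi ⟨0, by omega⟩) +
        ugen k m (.cij ⟨0, by omega⟩ ⟨1, by omega⟩ h01) * ugen k m (.cbi ⟨1, by omega⟩) -
        ugen k m (.cbi ⟨0, by omega⟩) * ugen k m (.cbi ⟨1, by omega⟩) := by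
    linear_combination (-1) * h
  rw [e]
  exact Ideal.sub_mem _ (Ideal.add_mem _
    (Ideal.mul_mem_mul (ugen_mem_origin k _) (ugen_mem_origin k _))
    (Ideal.mul_mem_mul (ugen_mem_origin k _) (ugen_mem_origin k _)))
    (Ideal.mul_mem_mul (ugen_mem_origin k _) (ugen_mem_origin k _))

theorem cl_cij (i j : Fin m) (h : i ≠ j) :
    cl k (.cij i j h) = cl k .a + cl k (.ci i) + cl k (.cbi i) + cl k (.ci j) + cl k (.cbi j) -
      cl k (.cij j i h.symm) := by
  have e : (⟨ugen k m (.cij i j h), ugen_mem_origin k _⟩ : uorigin k m) =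
      ⟨ugen k m .a, ugen_mem_origin k _⟩ + ⟨ugen k m (.ci i), ugen_mem_origin k _⟩ +
        ⟨ugen k m (.cbi i), ugen_mem_origin k _⟩ + ⟨ugen k m (.ci j), ugen_mem_origin k _⟩ +
        ⟨ugen k m (.cbi j), ugen_mem_origin k _⟩ -
        ⟨ugen k m (.cij j i h.symm), ugen_mem_origin k _⟩ := by
    apply Subtype.ext
    show ugen k m (.cij i j h) = ugen k m .a + ugen k m (.ci i) + ugen k m (.cbi i) +
      ugen k m (.ci j) + ugen k m (.cbi j) - ugen k m (.cij j i h.symm)
    linear_combination UC.u_lin k m i j h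
  have := congrArg (uorigin k m).toCotangent e
  simpa only [map_add, map_sub, cl] using this

/-- the proposed basis of the cotangent space -/
def clT (t : TT m) : (uorigin k m).Cotangent := cl k (gen t)

theorem cl_mem_span (hm : 2 ≤ m) (g : UGen m) :
    cl k g ∈ Submodule.span k (Set.range (clT k (m := m))) := by
  have hT : ∀ t, clT k t ∈ Submodule.span k (Set.range (clT k (m := m))) :=
    fun t => Submodule.subset_span ⟨t, rfl⟩
  cases g with
  | a => exact hT none
  | c =>
    rw [cl_c k hm]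
    exact Submodule.zero_mem _
  | cb =>
    rw [cl_cb k hm]
    exact Submodule.zero_mem _
  | ci i => exact hT (tC i)
  | cbi i => exact hT (tB i)
  | cij i j h =>
    rcases lt_or_gt_of_ne h with hlt | hgt
    · exact hT (tP i j hlt)
    · rw [cl_cij k i j h]
      exact Submodule.sub_mem _ (Submodule.add_mem _ (Submodule.add_mem _ (Submodule.add_mem _
        (Submodule.add_mem _ (hT none) (hT (tC i))) (hT (tB i))) (hT (tC j))) (hT (tB j)))
        (hT (tP j i hgt))

theorem span_clT (hm : 2 ≤ m) : ⊤ ≤ Submodule.span k (Set.range (clT k (m := m))) := by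
  rw [← span_cl k, Submodule.span_le]
  rintro _ ⟨g, rfl⟩
  exact cl_mem_span k hm g

theorem jet_gen (t : TT m) : (jet k (ugen k m (gen t))).snd = E k t := by
  rw [jet_ugen, TrivSqZeroExt.snd_inr]
  rcases t with _ | i | i | q
  · rfl
  · rfl
  · rfl
  · show ell k (.cij q.1.1 q.1.2 (ne_of_lt q.2)) = _
    simp only [ell]
    rw [dif_pos q.2]
    rfl

theorem clT_indep : LinearIndependent k (clT k (m := m)) := by
  rw [Fintype.linearIndependent_iff]
  intro c hc t
  have h1 : (uorigin k m).toCotangent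
      (∑ s, c s • (⟨ugen k m (gen s), ugen_mem_origin k (gen s)⟩ : uorigin k m)) = 0 := by
    rw [map_sum]
    simp only [toCot_smul]
    exact hc
  have h2 := ((uorigin k m).toCotangent_eq_zero _).mp h1
  have h3 := jet_sq k h2
  have h4 : ((∑ s, c s • (⟨ugen k m (gen s), ugen_mem_origin k (gen s)⟩ : uorigin k m) :
      uorigin k m) : URing k m) = ∑ s, c s • ugen k m (gen s) := by
    rw [AddSubmonoidClass.coe_finsetSum]
    rfl
  rw [h4, map_sum] at h3
  have h5 := congrArg (TrivSqZeroExt.sndHom k (TT m → k)) h3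
  rw [map_sum, map_zero] at h5
  have h6 : ∀ s, (TrivSqZeroExt.sndHom k (TT m → k)) (jet k (c s • ugen k m (gen s))) =
      c s • E k s := by
    intro s
    rw [map_smul, map_smul]
    show c s • (jet k (ugen k m (gen s))).snd = _
    rw [jet_gen]
  simp only [h6] at h5
  have h7 := congrFun h5 t
  simpa [E, Finset.sum_apply, Pi.single_apply] using h7

theorem finrank_cot (hm : 2 ≤ m) :
    Module.finrank k (uorigin k m).Cotangent = (m + 2) * (m + 1) / 2 := by
  rw [Module.finrank_eq_card_basis (Module.Basis.mk (clT_indep k) (span_clT k hm)), card_TT]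

end field

/-! ### generation in weight one -/

theorem adjoin_top (R : Type u) [CommRing R] (m : ℕ) (hm : 2 ≤ m) :
    Algebra.adjoin R ({ugen R m .a} ∪ Set.range (fun i : Fin m => ugen R m (.ci i)) ∪
        Set.range (fun i : Fin m => ugen R m (.cbi i)) ∪
        Set.range (fun q : {q : Fin m × Fin m // q.1 < q.2} =>
          ugen R m (.cij q.1.1 q.1.2 (ne_of_lt q.2)))) = ⊤ := by
  set B := Algebra.adjoin R ({ugen R m .a} ∪ Set.range (fun i : Fin m => ugen R m (.ci i)) ∪
        Set.range (fun i : Fin m => ugen R m (.cbi i)) ∪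
        Set.range (fun q : {q : Fin m × Fin m // q.1 < q.2} =>
          ugen R m (.cij q.1.1 q.1.2 (ne_of_lt q.2)))) with hB
  have ha : ugen R m .a ∈ B := Algebra.subset_adjoin (Or.inl (Or.inl (Or.inl rfl)))
  have hci : ∀ i, ugen R m (.ci i) ∈ B :=
    fun i => Algebra.subset_adjoin (Or.inl (Or.inl (Or.inr ⟨i, rfl⟩)))
  have hcbi : ∀ i, ugen R m (.cbi i) ∈ B :=
    fun i => Algebra.subset_adjoin (Or.inl (Or.inr ⟨i, rfl⟩))
  have hlt : ∀ i j (h : i < j), ugen R m (.cij i j (ne_of_lt h)) ∈ B :=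
    fun i j h => Algebra.subset_adjoin (Or.inr ⟨⟨(i, j), h⟩, rfl⟩)
  have hij : ∀ i j (h : i ≠ j), ugen R m (.cij i j h) ∈ B := by
    intro i j h
    rcases lt_or_gt_of_ne h with h1 | h1
    · exact hlt i j h1
    · have e : ugen R m (.cij i j h) = ugen R m .a + ugen R m (.ci i) + ugen R m (.cbi i) +
          ugen R m (.ci j) + ugen R m (.cbi j) - ugen R m (.cij j i h.symm) := by
        linear_combination UC.u_lin R m i j h
      rw [e]
      exact B.sub_mem (B.add_mem (B.add_mem (B.add_mem (B.add_mem ha (hci i)) (hcbi i)) (hci j))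
        (hcbi j)) (hlt j i h1)
  have h01 : (⟨0, by omega⟩ : Fin m) ≠ ⟨1, by omega⟩ := by
    intro h
    simp [Fin.ext_iff] at h
  have hc : ugen R m .c ∈ B := by
    have h := UC.u_qc R m ⟨0, by omega⟩ ⟨1, by omega⟩ h01
    have e : ugen R m .c =
        ugen R m (.cij ⟨1, by omega⟩ ⟨0, by omega⟩ h01.symm) * ugen R m (.ci ⟨1, by omega⟩) +
          ugen R m (.cij ⟨0, by omega⟩ ⟨1, by omega⟩ h01) * ugen R m (.ci ⟨0, by omega⟩) -
          ugen R m (.ci ⟨0, by omega⟩) * ugen R m (.ci ⟨1, by omega⟩) := by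
      linear_combination (-1) * h
    rw [e]
    exact B.sub_mem (B.add_mem (B.mul_mem (hij _ _ _) (hci _)) (B.mul_mem (hij _ _ _) (hci _)))
      (B.mul_mem (hci _) (hci _))
  have hcb : ugen R m .cb ∈ B := by
    have h := UC.u_qb R m ⟨0, by omega⟩ ⟨1, by omega⟩ h01
    have e : ugen R m .cb =
        ugen R m (.cij ⟨1, by omega⟩ ⟨0, by omega⟩ h01.symm) * ugen R m (.cbi ⟨0, by omega⟩) +
          ugen R m (.cij ⟨0, by omega⟩ ⟨1, by omega⟩ h01) * ugen R m (.cbi ⟨1, by omega⟩) -
          ugen R m (.cbi ⟨0, by omega⟩) * ugen R m (.cbi ⟨1, by omega⟩) := by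
      linear_combination (-1) * h
    rw [e]
    exact B.sub_mem (B.add_mem (B.mul_mem (hij _ _ _) (hcbi _)) (B.mul_mem (hij _ _ _) (hcbi _)))
      (B.mul_mem (hcbi _) (hcbi _))
  have hall : ∀ g, ugen R m g ∈ B := by
    intro g
    cases g with
    | a => exact ha
    | c => exact hc
    | cb => exact hcb
    | ci i => exact hci i
    | cbi i => exact hcbi i
    | cij i j h => exact hij i j h
  rw [eq_top_iff]
  rintro x -
  obtain ⟨p, rfl⟩ := Ideal.Quotient.mk_surjective x
  induction p using MvPolynomial.induction_on with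
  | C r => exact B.algebraMap_mem r
  | add p q hp hq =>
    rw [map_add]
    exact B.add_mem hp hq
  | mul_X p g hp =>
    rw [map_mul]
    exact B.mul_mem hp (hall g)

end Groth.Agent.Lib.Helper6.Groeb.UCot
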