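import Mathlib
import Groth.Prelude.Def_W4c5m1nsnscurvesC
import Groth.Agent.Lib.Helper6.Groeb.CurveGB4

/-!
# Counting graded index sets; the weights of the monomial basis of the curve algebra (helper6)
-/

set_option autoImplicit false
set_option linter.unusedSimpArgs false
set_option linter.unusedVariables false

namespace Groth.Agent.Lib.Helper6.Groeb.UGr

open W4c5m1nsnscurves Groth.Agent.Lib.Helper6.Groeb.Curve

/-- number of indices of degree `d` -/
noncomputable def cnt {ι : Type} (deg : ι → ℕ) (d : ℕ) : ℕ := Nat.card {i // deg i = d}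

/-- all fibres of the degree function are finite -/
def FinFib {ι : Type} (deg : ι → ℕ) : Prop := ∀ d, Finite {i // deg i = d}

/-- the Hilbert series of a graded index set -/
noncomputable def hser {ι : Type} (deg : ι → ℕ) : PowerSeries ℤ :=
  PowerSeries.mk fun d => (cnt deg d : ℤ)

section prod

variable {ι κ : Type} (d1 : ι → ℕ) (d2 : κ → ℕ)

/-- the fibre of the sum of two degree functions -/
def fibEquiv (d : ℕ) :
    {p : ι × κ // d1 p.1 + d2 p.2 = d} ≃
      Σ ab : (Finset.HasAntidiagonal.antidiagonal d), {i // d1 i = ab.1.1} × {k // d2 k = ab.1.2} where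
  toFun p := ⟨⟨(d1 p.1.1, d2 p.1.2), Finset.HasAntidiagonal.mem_antidiagonal.mpr p.2⟩, ⟨p.1.1, rfl⟩, ⟨p.1.2, rfl⟩⟩
  invFun x := ⟨(x.2.1.1, x.2.2.1), by
    rw [x.2.1.2, x.2.2.2]; exact Finset.HasAntidiagonal.mem_antidiagonal.mp x.1.2⟩
  left_inv p := rfl
  right_inv := by
    rintro ⟨⟨⟨a, b⟩, hab⟩, ⟨i, hi⟩, ⟨k, hk⟩⟩
    dsimp only at hi hk
    subst hi hk
    rfl

variable {d1 d2}

theorem finFib_prod (h1 : FinFib d1) (h2 : FinFib d2) :
    FinFib (fun p : ι × κ => d1 p.1 + d2 p.2) := by
  intro d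
  haveI : ∀ ab : (Finset.HasAntidiagonal.antidiagonal d), Finite ({i // d1 i = ab.1.1} × {k // d2 k = ab.1.2}) :=
    fun ab => by
      haveI := h1 ab.1.1
      haveI := h2 ab.1.2
      infer_instance
  exact Finite.of_equiv _ (fibEquiv d1 d2 d).symm

theorem hser_prod (h1 : FinFib d1) (h2 : FinFib d2) :
    hser (fun p : ι × κ => d1 p.1 + d2 p.2) = hser d1 * hser d2 := by
  ext d
  rw [PowerSeries.coeff_mul]
  simp only [hser, PowerSeries.coeff_mk]
  haveI : ∀ ab : (Finset.HasAntidiagonal.antidiagonal d), Finite ({i // d1 i = ab.1.1} × {k // d2 k = ab.1.2}) :=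
    fun ab => by
      haveI := h1 ab.1.1
      haveI := h2 ab.1.2
      infer_instance
  have e : cnt (fun p : ι × κ => d1 p.1 + d2 p.2) d =
      ∑ ab ∈ Finset.HasAntidiagonal.antidiagonal d, cnt d1 ab.1 * cnt d2 ab.2 := by
    unfold cnt
    rw [Nat.card_congr (fibEquiv d1 d2 d), Nat.card_sigma]
    rw [← Finset.sum_coe_sort (Finset.HasAntidiagonal.antidiagonal d)
      (fun ab => Nat.card {i // d1 i = ab.1} * Nat.card {k // d2 k = ab.2})]
    refine Finset.sum_congr rfl fun ab _ => ?_
    rw [Nat.card_prod]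
  rw [e]
  push_cast
  rfl

end prod

/-! ### the weights of the basis monomials -/

variable {m : ℕ}

/-- the weight of a basis monomial -/
def wtB : BIdx m → ℕ
  | none => 0
  | some (Sum.inl k) => k + 2
  | some (Sum.inr (_, k)) => k + 1

/-- the variables -/
def cvarEquiv : CVar m ≃ Option (Option (Fin m)) where
  toFun
    | .x2 => none
    | .x3 => some none
    | .xi i => some (some i)
  invFun
    | none => .x2
    | some none => .x3
    | some (some i) => .xi i
  left_inv := by intro x; cases x <;> rfl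
  right_inv := by rintro (_ | _ | i) <;> rfl

theorem card_cvar : Nat.card (CVar m) = m + 2 := by
  rw [Nat.card_congr cvarEquiv, Nat.card_eq_fintype_card, Fintype.card_option, Fintype.card_option,
    Fintype.card_fin]

def fib0 : {idx : BIdx m // wtB idx = 0} ≃ Unit where
  toFun _ := ()
  invFun _ := ⟨none, rfl⟩
  left_inv := by
    rintro ⟨idx, h⟩
    rcases idx with _ | k | ⟨y, k⟩
    · rfl
    · simp [wtB] at h
    · simp [wtB] at h
  right_inv _ := rfl

def fib1 : {idx : BIdx m // wtB idx = 1} ≃ CVar m where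
  toFun x := match x.1 with
    | some (Sum.inr (y, _)) => y
    | _ => CVar.x2
  invFun y := ⟨some (Sum.inr (y, 0)), rfl⟩
  left_inv := by
    rintro ⟨idx, h⟩
    rcases idx with _ | k | ⟨y, k⟩
    · simp [wtB] at h
    · simp [wtB] at h
    · have hk : k = 0 := by simpa [wtB] using h
      subst hk
      rfl
  right_inv y := rfl

def fib2 (q : ℕ) : {idx : BIdx m // wtB idx = q + 2} ≃ Option (CVar m) where
  toFun x := match x.1 with
    | some (Sum.inr (y, _)) => some y
    | _ => none
  invFun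
    | none => ⟨some (Sum.inl q), rfl⟩
    | some y => ⟨some (Sum.inr (y, q + 1)), rfl⟩
  left_inv := by
    rintro ⟨idx, h⟩
    rcases idx with _ | k | ⟨y, k⟩
    · simp [wtB] at h
    · have hk : k = q := by simpa [wtB] using h
      subst hk
      rfl
    · have hk : k = q + 1 := by
        simp only [wtB] at h
        omega
      subst hk
      rfl
  right_inv := by rintro (_ | y) <;> rfl

theorem finFib_wtB : FinFib (wtB (m := m)) := by
  intro d
  rcases d with _ | _ | q
  · exact Finite.of_equiv _ fib0.symm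
  · exact Finite.of_equiv _ fib1.symm
  · exact Finite.of_equiv _ (fib2 q).symm

theorem cnt_wtB_zero : cnt (wtB (m := m)) 0 = 1 := by
  unfold cnt
  rw [Nat.card_congr fib0]
  simp

theorem cnt_wtB_one : cnt (wtB (m := m)) 1 = m + 2 := by
  unfold cnt
  rw [Nat.card_congr fib1, card_cvar]

theorem cnt_wtB_add_two (q : ℕ) : cnt (wtB (m := m)) (q + 2) = m + 3 := by
  unfold cnt
  haveI : Fintype (CVar m) := Fintype.ofFinite _
  rw [Nat.card_congr (fib2 q), Nat.card_eq_fintype_card, Fintype.card_option,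
    ← Nat.card_eq_fintype_card, card_cvar]

open PowerSeries in
theorem hser_wtB : hser (wtB (m := m)) =
    (PowerSeries.mk fun _ => (1 : ℤ)) * (1 + PowerSeries.C ((m + 1 : ℕ) : ℤ) * PowerSeries.X +
      PowerSeries.X ^ 2) := by
  have e : (PowerSeries.mk fun _ => (1 : ℤ)) * (1 + PowerSeries.C ((m + 1 : ℕ) : ℤ) * PowerSeries.X +
      PowerSeries.X ^ 2) =
      (PowerSeries.mk fun _ => (1 : ℤ)) +
        PowerSeries.C ((m + 1 : ℕ) : ℤ) * ((PowerSeries.mk fun _ => (1 : ℤ)) * PowerSeries.X ^ 1) +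
        (PowerSeries.mk fun _ => (1 : ℤ)) * PowerSeries.X ^ 2 := by ring
  rw [e]
  ext q
  simp only [hser, PowerSeries.coeff_mk, map_add, PowerSeries.coeff_C_mul,
    PowerSeries.coeff_mul_X_pow']
  rcases q with _ | _ | q
  · rw [cnt_wtB_zero]; simp
  · rw [cnt_wtB_one]; simp; ring
  · rw [cnt_wtB_add_two]
    simp
    ring

open PowerSeries in
/-- the recursion of the Hilbert series `uhilb` -/
theorem uhilb_succ (hm : 2 ≤ m) : uhilb (m + 1) = uhilb m * hser (wtB (m := m)) := by
  rw [hser_wtB]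
  unfold uhilb
  rw [Finset.prod_Icc_succ_top (by omega : 3 ≤ m + 1)]
  have e : m + 1 + 4 = (m + 4) + 1 := by ring
  rw [e, pow_succ]
  ring

end Groth.Agent.Lib.Helper6.Groeb.UGr
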