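import Mathlib
import Groth.Prelude.Def_W4c5m1nsnscurvesC
import Groth.Prelude.Def_W4c5m1nsnscurvesI
import Groth.Agent.Lib.Helper6.Groeb.CurveGB5
import Groth.Agent.Lib.Helper6.Groeb.UCiso
import Groth.Agent.Lib.Helper6.Groeb.UGr1

/-!
# The grading of `O(U_n)` and the inductive step for graded bases (helper6)
-/

set_option autoImplicit false
set_option linter.unusedSimpArgs false
set_option linter.unusedVariables false
universe u

namespace Groth.Agent.Lib.Helper6.Groeb.UGr

open MvPolynomial W4c5m1nsnscurves Groth.Agent.Lib.Helper6.Groeb.Curve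
open Groth.Agent.Lib.Helper6.Groeb

attribute [local instance] MvPolynomial.weightedGradedAlgebra

variable {R : Type u} [CommRing R] {m : ℕ}

theorem wX (g : UGen m) {d : ℕ} (hd : uwt g = d) :
    IsWeightedHomogeneous (uwt (m := m)) (X g : MvPolynomial (UGen m) R) d :=
  hd ▸ isWeightedHomogeneous_X R _ g

theorem wXX (g h : UGen m) {d : ℕ} (hd : uwt g + uwt h = d) :
    IsWeightedHomogeneous (uwt (m := m)) (X g * X h : MvPolynomial (UGen m) R) d :=
  hd ▸ (isWeightedHomogeneous_X R _ g).mul (isWeightedHomogeneous_X R _ h)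

theorem wmul11 {p q : MvPolynomial (UGen m) R}
    (hp : IsWeightedHomogeneous (uwt (m := m)) p 1) (hq : IsWeightedHomogeneous (uwt (m := m)) q 1) :
    IsWeightedHomogeneous (uwt (m := m)) (p * q) 2 :=
  hp.mul hq

theorem urel_homog (p : MvPolynomial (UGen m) R) (hp : p ∈ URel R m) :
    SetLike.IsHomogeneousElem (weightedHomogeneousSubmodule R (uwt (m := m))) p := by
  rcases hp with ((⟨q, rfl⟩ | ⟨q, rfl⟩) | ⟨q, rfl⟩) | ⟨q, rfl⟩
  · refine ⟨1, (mem_weightedHomogeneousSubmodule R _ _ _).mpr ?_⟩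
    refine (IsWeightedHomogeneous.add ?_ ?_).sub
      ((((IsWeightedHomogeneous.add ?_ ?_).add ?_).add ?_).add ?_)
    all_goals exact wX _ rfl
  · refine ⟨2, (mem_weightedHomogeneousSubmodule R _ _ _).mpr ?_⟩
    refine (((IsWeightedHomogeneous.add ?_ ?_).sub ?_).sub ?_)
    all_goals first | exact wXX _ _ rfl | exact wX _ rfl
  · refine ⟨2, (mem_weightedHomogeneousSubmodule R _ _ _).mpr ?_⟩
    refine (((IsWeightedHomogeneous.add ?_ ?_).sub ?_).sub ?_)
    all_goals first | exact wXX _ _ rfl | exact wX _ rfl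
  · refine ⟨2, (mem_weightedHomogeneousSubmodule R _ _ _).mpr ?_⟩
    refine ((((IsWeightedHomogeneous.add ?_ ?_).sub ?_).add
      (wmul11 ((IsWeightedHomogeneous.add ?_ ?_).add ?_) ?_)).sub ?_)
    all_goals first | exact wXX _ _ rfl | exact wX _ rfl

variable (R m)

instance isHomog :
    GrQuot.IsHomog (weightedHomogeneousSubmodule R (uwt (m := m))) (Ideal.span (URel R m)) :=
  (GrQuot.isHomog_iff _ _).mpr (Ideal.homogeneous_span _ _ (urel_homog (R := R) (m := m)))

/-- `O(U_n)` is the internal direct sum of its weight pieces -/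
theorem isInternal : DirectSum.IsInternal (upiece R m) :=
  DirectSum.Decomposition.isInternal
    (GrQuot.quot (weightedHomogeneousSubmodule R (uwt (m := m))) (Ideal.span (URel R m)))

theorem mk_mem {p : MvPolynomial (UGen m) R} {d : ℕ}
    (hp : IsWeightedHomogeneous (uwt (m := m)) p d) :
    Ideal.Quotient.mk (Ideal.span (URel R m)) p ∈ upiece R m d :=
  GrQuot.mk_mem_quot _ _ ((mem_weightedHomogeneousSubmodule R _ _ _).mpr hp)

theorem ugen_mem (g : UGen m) {d : ℕ} (hd : uwt g = d) : ugen R m g ∈ upiece R m d :=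
  mk_mem R m (wX g hd)

theorem one_mem : (1 : URing R m) ∈ upiece R m 0 :=
  SetLike.one_mem_graded
    (GrQuot.quot (weightedHomogeneousSubmodule R (uwt (m := m))) (Ideal.span (URel R m)))

theorem mul_mem {x y : URing R m} {d e : ℕ} (hx : x ∈ upiece R m d) (hy : y ∈ upiece R m e) :
    x * y ∈ upiece R m (d + e) :=
  SetLike.mul_mem_graded
    (A := GrQuot.quot (weightedHomogeneousSubmodule R (uwt (m := m))) (Ideal.span (URel R m))) hx hy

theorem pow_mem {x : URing R m} {d : ℕ} (n : ℕ) (hx : x ∈ upiece R m d) :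
    x ^ n ∈ upiece R m (n * d) := by
  have := SetLike.pow_mem_graded
    (A := GrQuot.quot (weightedHomogeneousSubmodule R (uwt (m := m))) (Ideal.span (URel R m))) n hx
  rwa [smul_eq_mul] at this

variable {m} in
theorem uwt_castSucc (g : UGen m) : uwt g.castSucc = uwt g := by cases g <;> rfl

variable {m} in
theorem weight_castSucc (s : UGen m →₀ ℕ) :
    Finsupp.weight (uwt (m := m + 1)) (s.mapDomain UGen.castSucc) =
      Finsupp.weight (uwt (m := m)) s := by
  rw [Finsupp.weight_apply, Finsupp.weight_apply, Finsupp.sum_mapDomain_index]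
  · simp only [uwt_castSucc]
  · intro b; simp
  · intro b a c; simp [add_mul]

variable {R m} in
theorem rename_homog {p : MvPolynomial (UGen m) R} {d : ℕ}
    (hp : IsWeightedHomogeneous (uwt (m := m)) p d) :
    IsWeightedHomogeneous (uwt (m := m + 1)) (rename UGen.castSucc p) d := by
  have e : rename UGen.castSucc p =
      ∑ s ∈ p.support, monomial (s.mapDomain UGen.castSucc) (coeff s p) := by
    conv_lhs => rw [← support_sum_monomial_coeff p, map_sum]
    exact Finset.sum_congr rfl fun s _ => rename_monomial _ _ _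
  rw [e, ← mem_weightedHomogeneousSubmodule]
  refine Submodule.sum_mem _ fun s hs => ?_
  rw [mem_weightedHomogeneousSubmodule]
  exact isWeightedHomogeneous_monomial _ _ _
    ((weight_castSucc s).trans (hp (mem_support_iff.mp hs)))

theorem uincl_mk (p : MvPolynomial (UGen m) R) :
    uincl R m (Ideal.Quotient.mk _ p) = Ideal.Quotient.mk _ (rename UGen.castSucc p) := by
  rw [uincl, ← Ideal.Quotient.mkₐ_eq_mk R, Ideal.Quotient.liftₐ_apply, Ideal.Quotient.mkₐ_eq_mk,
    Ideal.Quotient.lift_mk]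
  rfl

theorem uincl_mem {x : URing R m} {d : ℕ} (hx : x ∈ upiece R m d) :
    uincl R m x ∈ upiece R (m + 1) d := by
  obtain ⟨p, hp, rfl⟩ := (GrQuot.mem_quot_iff _ _ _ _).mp hx
  rw [uincl_mk]
  exact mk_mem R (m + 1) (rename_homog ((mem_weightedHomogeneousSubmodule R _ _ _).mp hp))

theorem fvar_mem (y : CVar m) : UC.fvar R m y ∈ upiece R (m + 1) 1 := by
  cases y with
  | x2 =>
    show ugen R (m + 1) (.ci (Fin.last m)) ∈ _
    exact ugen_mem R (m + 1) _ rfl
  | x3 =>
    show ugen R (m + 1) .a + ugen R (m + 1) (.ci (Fin.last m)) +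
      ugen R (m + 1) (.cbi (Fin.last m)) ∈ _
    exact Submodule.add_mem _ (Submodule.add_mem _ (ugen_mem R (m + 1) _ rfl)
      (ugen_mem R (m + 1) _ rfl)) (ugen_mem R (m + 1) _ rfl)
  | xi i =>
    show ugen R (m + 1) (.cij i.castSucc (Fin.last m) (Fin.castSucc_lt_last i).ne) ∈ _
    exact ugen_mem R (m + 1) _ rfl

theorem fwd_cmon_mem (idx : BIdx m) :
    UC.fwd R m (cmon (URing R m) m (ugen R m) idx) ∈ upiece R (m + 1) (wtB idx) := by
  rcases idx with _ | k | ⟨y, k⟩
  · show UC.fwd R m 1 ∈ upiece R (m + 1) 0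
    rw [map_one]
    exact one_mem R (m + 1)
  · show UC.fwd R m (Ideal.Quotient.mk _ (X CVar.x2 ^ (k + 1) * X CVar.x3)) ∈
      upiece R (m + 1) (k + 2)
    rw [UC.fwd_mk, map_mul, map_pow, UC.fwd0_X, UC.fwd0_X]
    have h := mul_mem R (m + 1) (pow_mem R (m + 1) (k + 1) (fvar_mem R m CVar.x2))
      (fvar_mem R m CVar.x3)
    have e : (k + 1) * 1 + 1 = k + 2 := by ring
    rw [e] at h
    exact h
  · show UC.fwd R m (Ideal.Quotient.mk _ (X y ^ (k + 1))) ∈ upiece R (m + 1) (k + 1)
    rw [UC.fwd_mk, map_pow, UC.fwd0_X]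
    have h := pow_mem R (m + 1) (k + 1) (fvar_mem R m y)
    rwa [mul_one] at h

theorem eval_ugen_URel (p : MvPolynomial (UGen m) (URing R m)) (hp : p ∈ URel (URing R m) m) :
    MvPolynomial.eval (ugen R m) p = 0 := by
  rcases hp with ((⟨q, rfl⟩ | ⟨q, rfl⟩) | ⟨q, rfl⟩) | ⟨q, rfl⟩
  · obtain ⟨⟨i, j⟩, hij⟩ := q
    change i ≠ j at hij
    simp only [eval_X, map_add, map_sub, map_mul]
    exact UC.u_lin R m i j hij
  · obtain ⟨⟨i, j⟩, hij⟩ := q
    change i ≠ j at hij
    simp only [eval_X, map_add, map_sub, map_mul]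
    exact UC.u_qc R m i j hij
  · obtain ⟨⟨i, j⟩, hij⟩ := q
    change i ≠ j at hij
    simp only [eval_X, map_add, map_sub, map_mul]
    exact UC.u_qb R m i j hij
  · obtain ⟨⟨i, j, k⟩, hij, hjk, hik⟩ := q
    change i ≠ j at hij
    change j ≠ k at hjk
    change i ≠ k at hik
    simp only [eval_X, map_add, map_sub, map_mul]
    exact UC.u_tr R m i j k hij hjk hik

/-- the isomorphism `O(C_n) ≅ O(U_{n+1})` as an `R`-linear equivalence -/
noncomputable def eR : UC.CA R m ≃ₗ[R] URing R (m + 1) :=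
  { (UC.equiv R m).toAddEquiv with
    map_smul' := fun r x => by
      show UC.equiv R m (r • x) = r • UC.equiv R m x
      have h1 : r • x = algebraMap R (UC.CA R m) r * x := Algebra.smul_def r x
      have h2 : r • UC.equiv R m x = algebraMap R (URing R (m + 1)) r * UC.equiv R m x :=
        Algebra.smul_def r (UC.equiv R m x)
      rw [h1, h2, map_mul,
        IsScalarTower.algebraMap_apply R (URing R m) (UC.CA R m), UC.equiv_algebraMap,
        AlgHom.commutes] }

theorem eR_apply (x : UC.CA R m) : eR R m x = UC.fwd R m x := rfl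

/-- `O(U_n)` has a basis of weighted-homogeneous elements with finite fibres and Hilbert
series `H`. -/
def GB (H : PowerSeries ℤ) : Prop :=
  ∃ (ι : Type) (deg : ι → ℕ) (b : Module.Basis ι R (URing R m)),
    (∀ i, b i ∈ upiece R m (deg i)) ∧ FinFib deg ∧ hser deg = H

variable {R m} in
/-- **the inductive step**: `O(U_{n+1})` is free over `O(U_n)` on the monomials `cmon`. -/
theorem GB_step (hm : 1 ≤ m) {H : PowerSeries ℤ} (h : GB R m H) :
    GB R (m + 1) (H * hser (wtB (m := m))) := by
  obtain ⟨ι, deg, b, hb, hfin, hH⟩ := h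
  obtain ⟨hli, hsp⟩ := (basis_iff hm (ugen R m)).mpr (eval_ugen_URel R m)
  let cB : Module.Basis (BIdx m) (URing R m) (UC.CA R m) := Module.Basis.mk hli hsp.ge
  have hcB : ∀ idx, cB idx = cmon (URing R m) m (ugen R m) idx :=
    fun idx => Module.Basis.mk_apply hli hsp.ge idx
  let bU : Module.Basis (ι × BIdx m) R (URing R (m + 1)) := (b.smulTower cB).map (eR R m)
  refine ⟨ι × BIdx m, fun p => deg p.1 + wtB p.2, bU, ?_, finFib_prod hfin finFib_wtB, ?_⟩
  · rintro ⟨i, idx⟩
    have e2 : UC.fwd R m (algebraMap (URing R m) (UC.CA R m) (b i)) = uincl R m (b i) :=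
      UC.equiv_algebraMap R m (b i)
    have e : bU (i, idx) =
        uincl R m (b i) * UC.fwd R m (cmon (URing R m) m (ugen R m) idx) := by
      show ((b.smulTower cB).map (eR R m)) (i, idx) = _
      rw [Module.Basis.map_apply, Module.Basis.smulTower_apply, hcB, eR_apply]
      have h3 : b i • cmon (URing R m) m (ugen R m) idx =
          algebraMap (URing R m) (UC.CA R m) (b i) * cmon (URing R m) m (ugen R m) idx :=
        Algebra.smul_def (b i) (cmon (URing R m) m (ugen R m) idx)
      show UC.fwd R m (b i • cmon (URing R m) m (ugen R m) idx) = _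
      rw [h3, map_mul, e2]
    rw [e]
    exact mul_mem R (m + 1) (uincl_mem R m (hb i)) (fwd_cmon_mem R m idx)
  · rw [hser_prod hfin finFib_wtB, hH]

end Groth.Agent.Lib.Helper6.Groeb.UGr
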