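import Mathlib
import Groth.Prelude.Def_W4c5m1nsnscurvesC
import Groth.Prelude.Def_W4c5m1nsnscurvesI
import Groth.Agent.Lib.Helper6.Groeb.UGr2
import Groth.Agent.S18247

/-!
# Freeness, grading and Hilbert series of `O(U_n)` over `ℤ` (helper6)
-/

set_option autoImplicit false
set_option linter.unusedSimpArgs false
set_option linter.unusedVariables false
universe u

namespace Groth.Agent.Lib.Helper6.Groeb.UGr

open MvPolynomial W4c5m1nsnscurves Groth.Agent.Lib.Helper6.Groeb.Curve
open Groth.Agent.Lib.Helper6.Groeb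

attribute [local instance] MvPolynomial.weightedGradedAlgebra

section generic

variable {R M : Type*} [CommRing R] [AddCommGroup M] [Module R M]

/-- a piece of an independent family is spanned by the basis vectors it contains -/
theorem piece_eq_span {ι : Type*} (P : ℕ → Submodule R M) (hP : iSupIndep P)
    (b : Module.Basis ι R M) (deg : ι → ℕ) (hb : ∀ i, b i ∈ P (deg i)) (d : ℕ) :
    P d = Submodule.span R (Set.range fun i : {i // deg i = d} => b i.1) := by
  classical
  have hspan_le : Submodule.span R (Set.range fun i : {i // deg i = d} => b i.1) ≤ P d := by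
    rw [Submodule.span_le]
    rintro _ ⟨⟨i, hi⟩, rfl⟩
    subst hi
    exact hb i
  apply le_antisymm
  · intro x hx
    have hrepr := (b.linearCombination_repr x).symm
    rw [Finsupp.linearCombination_apply, Finsupp.sum] at hrepr
    obtain ⟨y, hy, z, hz, hxyz⟩ :
        ∃ y ∈ Submodule.span R (Set.range fun i : {i // deg i = d} => b i.1),
          ∃ z ∈ (⨆ j, ⨆ (_ : j ≠ d), P j), x = y + z := by
      refine ⟨∑ i ∈ (b.repr x).support.filter (fun i => deg i = d), (b.repr x) i • b i, ?_,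
        ∑ i ∈ (b.repr x).support.filter (fun i => ¬ deg i = d), (b.repr x) i • b i, ?_, ?_⟩
      · exact Submodule.sum_mem _ fun i hi => Submodule.smul_mem _ _
          (Submodule.subset_span ⟨⟨i, (Finset.mem_filter.mp hi).2⟩, rfl⟩)
      · exact Submodule.sum_mem _ fun i hi => Submodule.smul_mem _ _
          (Submodule.mem_iSup_of_mem (deg i)
            (Submodule.mem_iSup_of_mem (Finset.mem_filter.mp hi).2 (hb i)))
      · rw [Finset.sum_filter_add_sum_filter_not]
        exact hrepr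
    have hz1 : z ∈ P d := by
      have e : z = x - y := by rw [hxyz]; abel
      rw [e]
      exact Submodule.sub_mem _ hx (hspan_le hy)
    have hz0 : z = 0 := Submodule.disjoint_def.mp (hP d) z hz1 hz
    rw [hxyz, hz0, add_zero]
    exact hy
  · exact hspan_le

theorem finrank_piece [Nontrivial R] {ι : Type} (P : ℕ → Submodule R M) (hP : iSupIndep P)
    (b : Module.Basis ι R M) (deg : ι → ℕ) (hb : ∀ i, b i ∈ P (deg i)) (hfin : FinFib deg)
    (d : ℕ) : Module.finrank R (P d) = cnt deg d := by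
  haveI := hfin d
  haveI : Fintype {i // deg i = d} := Fintype.ofFinite _
  have hli : LinearIndependent R (fun i : {i // deg i = d} => b i.1) :=
    b.linearIndependent.comp Subtype.val Subtype.val_injective
  rw [piece_eq_span P hP b deg hb d, finrank_span_eq_card hli]
  unfold cnt
  rw [Nat.card_eq_fintype_card]

end generic

/-! ### the base case `m = 2` -/

/-- degree of an exponent vector -/
def deg6 (s : Fin 6 →₀ ℕ) : ℕ := s.sum fun _ => id

theorem finFib_deg6 : FinFib deg6 := fun d =>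
  Finite.of_equiv _ (Sym.equivNatSum (Fin 6) d)

theorem cnt_deg6 (d : ℕ) : cnt deg6 d = (5 + d).choose 5 := by
  unfold cnt deg6
  rw [Nat.card_congr (Sym.equivNatSum (Fin 6) d).symm, Nat.card_eq_fintype_card,
    Sym.card_sym_eq_multichoose, Fintype.card_fin, Nat.multichoose_eq]
  have e : 6 + d - 1 = 5 + d := by omega
  rw [e]
  exact (Nat.choose_symm_add).symm

theorem hser_deg6 : hser deg6 = (PowerSeries.mk fun _ => (1 : ℤ)) ^ 6 := by
  have h : (PowerSeries.mk fun _ => (1 : ℤ)) ^ (5 + 1) =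
      PowerSeries.mk fun n => (((5 + n).choose 5 : ℕ) : ℤ) :=
    PowerSeries.mk_one_pow_eq_mk_choose_add ℤ 5
  show hser deg6 = (PowerSeries.mk fun _ => (1 : ℤ)) ^ (5 + 1)
  rw [h]
  ext d
  simp only [hser, PowerSeries.coeff_mk, cnt_deg6]

theorem uhilb_two : uhilb 2 = (PowerSeries.mk fun _ => (1 : ℤ)) ^ 6 := by
  unfold uhilb
  rw [Finset.Icc_eq_empty (by norm_num), Finset.prod_empty, mul_one]

theorem prod_pow_mem (R : Type u) [CommRing R] (m : ℕ) {κ : Type*} (g : κ → URing R m)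
    (F : Finset κ) (n : κ → ℕ) (hg : ∀ k ∈ F, g k ∈ upiece R m 1) :
    ∏ k ∈ F, g k ^ n k ∈ upiece R m (∑ k ∈ F, n k) := by
  have h := SetLike.prod_pow_mem_graded
    (GrQuot.quot (weightedHomogeneousSubmodule R (uwt (m := m))) (Ideal.span (URel R m)))
    (fun _ : κ => 1) g (F := F) n hg
  have e : ∑ k ∈ F, n k • (fun _ : κ => 1) k = ∑ k ∈ F, n k := by simp
  rw [e] at h
  exact h

theorem GB_two : GB ℤ 2 ((PowerSeries.mk fun _ => (1 : ℤ)) ^ 6) := by
  let v : Fin 6 → URing ℤ 2 := ![ugen ℤ 2 .a, ugen ℤ 2 (.ci 0), ugen ℤ 2 (.cbi 0),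
    ugen ℤ 2 (.ci 1), ugen ℤ 2 (.cbi 1), ugen ℤ 2 (.cij 0 1 Fin.zero_ne_one)]
  have hbij : Function.Bijective (MvPolynomial.aeval (R := ℤ) (S₁ := URing ℤ 2) v) :=
    Groth.Agent.S18247.result
  let e : MvPolynomial (Fin 6) ℤ ≃ₐ[ℤ] URing ℤ 2 := AlgEquiv.ofBijective _ hbij
  let b : Module.Basis (Fin 6 →₀ ℕ) ℤ (URing ℤ 2) :=
    (basisMonomials (Fin 6) ℤ).map e.toLinearEquiv
  have hv : ∀ i, v i ∈ upiece ℤ 2 1 := by
    intro i
    fin_cases i
    · show ugen ℤ 2 .a ∈ _
      exact ugen_mem ℤ 2 _ rfl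
    · show ugen ℤ 2 (.ci 0) ∈ _
      exact ugen_mem ℤ 2 _ rfl
    · show ugen ℤ 2 (.cbi 0) ∈ _
      exact ugen_mem ℤ 2 _ rfl
    · show ugen ℤ 2 (.ci 1) ∈ _
      exact ugen_mem ℤ 2 _ rfl
    · show ugen ℤ 2 (.cbi 1) ∈ _
      exact ugen_mem ℤ 2 _ rfl
    · show ugen ℤ 2 (.cij 0 1 Fin.zero_ne_one) ∈ _
      exact ugen_mem ℤ 2 _ rfl
  refine ⟨Fin 6 →₀ ℕ, deg6, b, ?_, finFib_deg6, hser_deg6⟩
  intro s
  have e1 : b s = s.prod fun i k => v i ^ k := by
    show ((basisMonomials (Fin 6) ℤ).map e.toLinearEquiv) s = _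
    rw [Module.Basis.map_apply, coe_basisMonomials]
    show MvPolynomial.aeval v (monomial s (1 : ℤ)) = _
    rw [aeval_monomial, map_one, one_mul]
  rw [e1]
  have h := prod_pow_mem ℤ 2 v s.support (fun i => s i) (fun k _ => hv k)
  have e2 : ∑ k ∈ s.support, s k = deg6 s := by
    simp [deg6, Finsupp.sum]
  rw [e2] at h
  exact h

/-- **graded bases for all `m ≥ 2`** -/
theorem GB_all (m : ℕ) (hm : 2 ≤ m) : GB ℤ m (uhilb m) := by
  induction m, hm using Nat.le_induction with
  | base =>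
    rw [uhilb_two]
    exact GB_two
  | succ m hm ih =>
    rw [uhilb_succ hm]
    exact GB_step (by omega) ih

/-- **`O(U_n)` over `ℤ` is free, graded, with Hilbert series `uhilb`.** -/
theorem main (m : ℕ) (hm : 2 ≤ m) :
    Module.Free ℤ (URing ℤ m) ∧ DirectSum.IsInternal (upiece ℤ m) ∧
      ∀ d : ℕ, (Module.finrank ℤ (upiece ℤ m d) : ℤ) = PowerSeries.coeff d (uhilb m) := by
  obtain ⟨ι, deg, b, hb, hfin, hH⟩ := GB_all m hm
  refine ⟨Module.Free.of_basis b, isInternal ℤ m, fun d => ?_⟩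
  rw [finrank_piece (upiece ℤ m) (isInternal ℤ m).submodule_iSupIndep b deg hb hfin d, ← hH]
  simp only [hser, PowerSeries.coeff_mk]

end Groth.Agent.Lib.Helper6.Groeb.UGr
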